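import Cfsg.Agent.CentrelessThree.Normal
import Cfsg.Agent.GStructB.TwoSizesCore
import Cfsg.Agent.Lib.PLocal.CyclicExtension

/-! The abelian centralisers of the coprime size; self-normalising centralisers. -/

set_option autoImplicit false
set_option linter.style.haveILetI false

namespace Cfsg.Agent.CentrelessThree

open Subgroup
open GroupStructure3.ClassGraph (cs cs_conj exists_conj_le exists_mul_of_coprime)
open GStructB.TwoSizes (cent IsL mem_cent self_mem_cent conj_mem_cent isL_of_mem)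
open ClassRankThree (cent_eq_of_cs_eq AbCent CC)
open scoped IsMulCommutative

universe u

variable {G : Type u} [Group G] [Finite G]

namespace Sz

variable {a b c : ℕ} (D : Sz G a b c) (h2 : ¬ 2 ∣ a) {M : Subgroup G}
include D h2

omit D in
theorem mem_n0_of_a [M.Normal] (hM : IsPGroup 2 M) {u : G} (hu : cs u = a) : u ∈ centralizer (M : Set G) := by
  haveI := Fact.mk Nat.prime_two
  obtain ⟨S, hS⟩ := exists_sylow_le h2 hu
  exact mem_centralizer_iff.2 fun m hm => (mem_cent.1 (hS (hM.le_sylow_of_normal S hm))).eq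

theorem eq_one_of_commute_c (hM : IsPGroup 2 M) {m x : G} (hm : m ∈ M) (hx : cs x = c) (hc : Commute m x) :
    m = 1 := by
  haveI := Fact.mk Nat.prime_two
  obtain ⟨k, hk⟩ := GStructB.PElements.exists_orderOf_eq hM hm
  have hd := D.orderOf_dvd_a_of_c hx hc
  rcases Nat.eq_zero_or_pos k with h0 | h0
  · exact orderOf_eq_one_iff.1 (by rw [hk, h0, pow_zero])
  · exact absurd ((dvd_pow_self 2 h0.ne').trans (hk ▸ hd)) h2

variable [M.Normal] [IsMulCommutative M]

theorem exists_abCent (hM : IsPGroup 2 M) (hM1 : M ≠ ⊥) : ∃ w : G, cs w = c ∧ AbCent w := by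
  by_cases ha : IsPrimePow a
  swap
  · exact D.abCent_of_not_primePow ha
  obtain ⟨p, k, hp, hk0, hk⟩ := (isPrimePow_nat_iff a).1 ha
  haveI := Fact.mk hp
  have hp2 : p ≠ 2 := fun e => h2 (hk ▸ e ▸ dvd_pow_self p hk0.ne')
  obtain ⟨w, -, hw⟩ := D.ec
  refine ⟨w, hw, ?_⟩
  have hX : IsPGroup p (cent w) := IsPGroup.of_card (n := k) (by rw [D.card_cent_c hw, hk])
  by_cases hcyc : IsCyclic (cent w)
  · intro x hx y hy
    exact congrArg Subtype.val (IsCyclic.commGroup.mul_comm (⟨x, hx⟩ : cent w) ⟨y, hy⟩)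
  exfalso
  obtain ⟨E, -, -, hE, hEc⟩ := PLocal.CyclicExtension.exists_normal_elementaryAbelian_sq hp2 hX ⊤
    (fun h => hcyc ((topEquiv (G := cent w)).isCyclic.1 h))
  obtain ⟨f, hf, hf1⟩ : ∃ f ∈ E, f ≠ 1 := by
    by_contra hno
    push Not at hno
    rw [(eq_bot_iff_forall E).2 hno, card_bot] at hEc
    exact hp.one_lt.ne ((Nat.pow_eq_one.1 hEc.symm).resolve_right (by norm_num)).symm
  obtain ⟨g, hg, hgf⟩ : ∃ g ∈ E, g ∉ zpowers f := by
    by_contra hno
    push Not at hno
    have h1 := Nat.le_of_dvd Nat.card_pos (card_dvd_of_le hno)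
    rw [hEc, Nat.card_zpowers] at h1
    have h3 := Nat.le_of_dvd hp.pos (orderOf_dvd_of_pow_eq_one (hE.2 f hf))
    nlinarith [hp.two_le]
  let φ : cent w → M →* M := fun x => (MulAut.conjNormal (x : G) : MulAut M).toMonoidHom
  have hit : ∀ (x : cent w) (j : ℕ) (m : M), ((φ x : M → M)^[j] m : G) = (x : G) ^ j * m * ((x : G) ^ j)⁻¹ := by
    intro x j
    induction j with
    | zero => intro m; simp
    | succ j ih =>
      intro m
      rw [Function.iterate_succ_apply', show ∀ y : M, ((φ x y : M) : G) = x * y * (x : G)⁻¹ from fun y => rfl,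
        ih, pow_succ']
      group
  have hper : ∀ x ∈ E, ∀ m : M, (φ x : M → M)^[p] m = m := fun x hx m => Subtype.ext (by
    rw [hit, ← SubmonoidClass.coe_pow, hE.2 x hx, OneMemClass.coe_one, one_mul, inv_one, mul_one])
  have hfix : ∀ x : cent w, x ≠ 1 → ∀ m : M, (x : G) * m * (x : G)⁻¹ = m → m = 1 := fun x hx m e =>
    Subtype.ext (D.eq_one_of_commute_c h2 hM m.2 (D.qc_closed hw x (mem_cent.1 x.2) fun e => hx (Subtype.ext e))
      (mul_inv_eq_iff_eq_mul.1 e).symm)
  have hfg : Commute f g := congrArg Subtype.val (hE.1.is_comm.comm (⟨f, hf⟩ : E) ⟨g, hg⟩)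
  have key : ∀ m : M, m ^ p = 1 := fun m => mem_bot.1 <| GStructB.TwoSizes.pow_mem_of_fixed (φ f) (φ g)
    (fun m => Subtype.ext (by
      show (f : G) * ((g : G) * m * (g : G)⁻¹) * (f : G)⁻¹ = g * (f * m * (f : G)⁻¹) * (g : G)⁻¹
      have e : (f : G) * g = g * f := congrArg Subtype.val hfg.eq
      calc (f : G) * ((g : G) * m * (g : G)⁻¹) * (f : G)⁻¹ = (f * g) * m * ((f : G) * g)⁻¹ := by group
        _ = _ := by rw [e]; group))
    (hper f hf) (hper g hg) ⊥ (fun m e => mem_bot.2 (hfix f hf1 m (congrArg Subtype.val e)))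
    (fun j m e => mem_bot.2 (hfix (g * f ^ j) (fun e' => hgf (by
      rw [eq_inv_of_mul_eq_one_left e']; exact inv_mem (pow_mem (mem_zpowers f) j))) m (by
        have e1 : (g : G) * ((φ f : M → M)^[j] m : G) * (g : G)⁻¹ = m := congrArg Subtype.val e
        rw [hit] at e1
        push_cast
        exact Eq.trans (by group) e1)))
    (fun m hm => by rw [mem_bot.1 hm, map_one]) m
  refine hM1 ((eq_bot_iff_forall M).2 fun m hm => ?_)
  haveI := Fact.mk Nat.prime_two
  obtain ⟨i, hi⟩ := GStructB.PElements.exists_orderOf_eq hM hm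
  have hd : orderOf m ∣ p := orderOf_dvd_of_pow_eq_one (congrArg Subtype.val (key ⟨m, hm⟩))
  have hco : (orderOf m).Coprime p := hi ▸ ((Nat.coprime_primes Nat.prime_two hp).2 hp2.symm).pow_left i
  exact orderOf_eq_one_iff.1 (Nat.eq_one_of_dvd_coprimes hco dvd_rfl hd)

theorem exists_cc (hM : IsPGroup 2 M) (hM1 : M ≠ ⊥) :
    ∃ H : Subgroup G, CC H ∧ Nat.card H = a ∧ H.index = c ∧
      ∀ x : G, cs x = c → ∃ d : G, d * x * d⁻¹ ∈ H := by
  obtain ⟨w, hw, hab⟩ := D.exists_abCent h2 hM hM1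
  have hH := D.cc_of_abCent hw hab
  refine ⟨cent w, hH, D.card_cent_c hw, hw, fun x hx => ?_⟩
  obtain ⟨l, hl, i, hyl, hyc⟩ := D.component_c hx
  haveI := Fact.mk hl
  obtain ⟨j, hj⟩ := hyl
  have hy1 := D.ne_one_c hyc
  have hla : l ∣ a := (dvd_pow_self l (fun h => hy1 (orderOf_eq_one_iff.1 (by rw [hj, h, pow_zero])))).trans
    (hj ▸ D.orderOf_dvd_a_of_c hyc (Commute.refl _))
  obtain ⟨P, hP⟩ := GStructB.PElements.exists_mem_sylow hj
  obtain ⟨d, hd⟩ := exists_conj_le (A := cent w) (show ¬ l ∣ cs w by rw [hw]; exact D.not_dvd_c hl hla) P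
  refine ⟨d, ?_⟩
  rw [← hH.cent_eq _ (hd _ hP) (fun e => hy1 (conj_eq_one_iff.1 e))]
  exact mem_cent.2 (((Commute.refl x).pow_right i).map (MulAut.conj d).toMonoidHom)

/-- The centraliser of an involution of size `a` is self-normalising. -/
theorem normalizer_eq (hM : IsPGroup 2 M) (hM1 : M ≠ ⊥) {t : G} (hta : cs t = a) :
    normalizer (cent t : Set G) = cent t := by
  refine le_antisymm ?_ le_normalizer
  rw [← relIndex_eq_one]
  by_contra hne
  obtain ⟨p, hp, hd⟩ := Nat.exists_prime_and_dvd hne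
  haveI := Fact.mk hp
  have hpa : p ∣ a := hd.trans (hta ▸ ⟨_, (relIndex_mul_index le_normalizer).symm⟩)
  obtain ⟨h, hh⟩ := exists_prime_orderOf_dvd_card' (G := normalizer (cent t : Set G)) p
    (hd.trans (index_dvd_card _))
  rw [← Subgroup.orderOf_coe] at hh
  haveI := D.nilpotent_of_normalized hp hpa hh (cent t) h.2 (D.card_cent_a hta).dvd
  obtain ⟨H, hH, -, hHi, -⟩ := D.exists_cc h2 hM hM1
  haveI : IsMulCommutative H := ⟨⟨hH.comm⟩⟩
  refine D.hns (SolvStruct.Kegel.isSolvable _ G H (cent t) rfl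
    (Components.Fitting.isNilpotent_of_isMulCommutative H) inferInstance fun g => ?_)
  exact exists_mul_of_coprime (by rw [hHi, show (cent t).index = a from hta]; exact D.cop) g

end Sz

end Cfsg.Agent.CentrelessThree
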