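import Cfsg.Agent.CentrelessThree.Abelian
import Cfsg.Agent.S0035
import Cfsg.Agent.TwoRegClass.Base

/-! No element of odd order has the small size: a Frobenius argument. -/

set_option autoImplicit false
set_option linter.style.haveILetI false

namespace Cfsg.Agent.CentrelessThree

open Subgroup
open GroupStructure3.ClassGraph (cs cs_conj centralizer_mul_eq)
open GStructB.TwoSizes (cent IsL mem_cent self_mem_cent conj_mem_cent isL_conj)
open ClassRankThree (cent_eq_of_cs_eq ne_one_of_orderOf_prime ne_one_of_mul)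
open scoped Pointwise

universe u

variable {G : Type u} [Group G] [Finite G]

namespace Sz

variable {a b c : ℕ} (D : Sz G a b c) (h2 : ¬ 2 ∣ a) {M : Subgroup G} [M.Normal] [IsMulCommutative M]
include D h2

omit D h2 [M.Normal] [IsMulCommutative M] in
theorem n0_le {t : G} (htM : t ∈ M) : centralizer (M : Set G) ≤ cent t := fun x hx =>
  mem_cent.2 (mem_centralizer_iff.1 hx t htM).symm

theorem n0_ne_cent (hM : IsPGroup 2 M) (hM1 : M ≠ ⊥) {t : G} (hta : cs t = a) :
    ¬ cent t ≤ centralizer (M : Set G) ∨ ¬ centralizer (M : Set G) ≤ cent t := by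
  by_contra hno
  push Not at hno
  have e : cent t = centralizer (M : Set G) := le_antisymm hno.1 hno.2
  haveI : (cent t).Normal := e ▸ inferInstance
  have := D.normalizer_eq h2 hM hM1 hta
  rw [normalizer_eq_top] at this
  have hidx : (cent t).index = 1 := by rw [← this]; exact index_top
  exact D.one_lt_a.ne' (hta ▸ hidx)

theorem no_odd_a (hM : IsPGroup 2 M) (hM1 : M ≠ ⊥) {v : G} (hv : (orderOf v).Coprime 2) (hva : cs v = a) :
    False := by
  classical
  haveI := Fact.mk Nat.prime_two
  set N₀ := centralizer (M : Set G) with hN₀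
  have hv1 := D.ne_one_a hva
  have hvN := mem_n0_of_a h2 hM hva
  obtain ⟨S, hS⟩ := exists_sylow_le h2 hva
  obtain ⟨t, htM, ht, hSt, hta⟩ := D.exists_involution_sylow h2 S hM hM1
  have hc : Commute v t := mem_cent.1 (n0_le htM hvN)
  have hco : (orderOf v).Coprime (orderOf t) := ht.symm ▸ hv
  have e : cent (v * t) = cent v ⊓ cent t := centralizer_mul_eq hc hco
  have hm := D.cs_a_of_sylow h2 S (ne_one_of_mul hv1 hco) (e ▸ le_inf hS hSt)
  have hKv : cent v = cent t :=
    (cent_eq_of_cs_eq (e.le.trans inf_le_left) (hm.trans hva.symm)).symm.trans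
      (cent_eq_of_cs_eq (e.le.trans inf_le_right) (hm.trans hta.symm))
  have hN₀K : N₀ ≤ cent t := n0_le htM
  have hK : ¬ cent t ≤ N₀ := (D.n0_ne_cent h2 hM hM1 hta).resolve_right (not_not.2 hN₀K)
  have hMt : M ≤ cent t := fun m hm => mem_cent.2
    (congrArg Subtype.val (mul_comm' (⟨m, hm⟩ : M) ⟨t, htM⟩))
  -- intersections of conjugates
  have hinter : ∀ g : G, g ∉ cent t → cent t ⊓ cent (g * t * g⁻¹) ≤ N₀ := by
    intro g hg
    have hvN' : g * v * g⁻¹ ∈ N₀ := (inferInstance : N₀.Normal).conj_mem v hvN g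
    have htM' : g * t * g⁻¹ ∈ M := (inferInstance : M.Normal).conj_mem t htM g
    have hKv' : cent (g * v * g⁻¹) = cent (g * t * g⁻¹) := by
      rw [show cent (g * v * g⁻¹) = _ from GroupStructure3.ClassGraph.centralizer_conj g v,
        show cent (g * t * g⁻¹) = _ from GroupStructure3.ClassGraph.centralizer_conj g t]
      exact congrArg (Subgroup.map _) hKv
    have hc' : Commute t (g * v * g⁻¹) := (mem_cent.1 (n0_le htM hvN')).symm
    have ho : orderOf (g * v * g⁻¹) = orderOf v :=
      orderOf_injective (MulAut.conj g).toMonoidHom (MulAut.conj g).injective v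
    have hco' : (orderOf t).Coprime (orderOf (g * v * g⁻¹)) := ho.symm ▸ hco.symm
    have e' : cent (t * (g * v * g⁻¹)) = cent t ⊓ cent (g * t * g⁻¹) := by
      rw [← hKv']; exact centralizer_mul_eq hc' hco'
    have hne : t * (g * v * g⁻¹) ≠ 1 := ne_one_of_mul (ne_one_of_orderOf_prime Nat.prime_two ht) hco'
    have hev : 2 ∣ orderOf (t * (g * v * g⁻¹)) := by
      rw [hc'.orderOf_mul_eq_mul_orderOf_of_coprime hco', ht]; exact dvd_mul_right 2 _
    have hb : cs (t * (g * v * g⁻¹)) = b := by
      rcases D.vals _ hne with h | h | h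
      · exfalso
        have e1 := cent_eq_of_cs_eq (e'.le.trans inf_le_left) (h.trans hta.symm)
        have e2 := cent_eq_of_cs_eq (e'.le.trans inf_le_right) (h.trans ((cs_conj g t).trans hta).symm)
        refine hg ((D.normalizer_eq h2 hM hM1 hta).le ?_)
        refine mem_normalizer_fintype fun k hk => ?_
        have h1 := conj_mem_cent (c := g) (SetLike.mem_coe.1 hk)
        rwa [← e2, e1] at h1
      · exact h
      · exact absurd h (D.cs_ne_c Nat.prime_two (D.two_dvd_c h2) hev)
    intro y hy
    refine TwoRegClass.mem_of_primary fun l k hl _ hlk => ?_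
    have hx : y ^ k ∈ cent t ⊓ cent (g * t * g⁻¹) := pow_mem hy k
    by_cases hx1 : y ^ k = 1
    · rw [hx1]; exact one_mem _
    rcases D.vals _ hx1 with h | h | h
    · exact mem_n0_of_a h2 hM h
    · have hle : cent (y ^ k) ≤ cent t ⊓ cent (g * t * g⁻¹) := by
        obtain ⟨i, hi⟩ := hlk
        by_cases hl2 : l = 2
        · refine le_inf ?_ ?_
          · rw [← hKv]
            refine D.cent_le_of_b h (mem_cent.1 (hKv ▸ hx.1 : y ^ k ∈ cent v)).symm ?_
            rw [hi, hl2]; exact (hv.pow_right i).symm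
          · rw [← hKv']
            refine D.cent_le_of_b h (mem_cent.1 (hKv' ▸ hx.2 : y ^ k ∈ cent (g * v * g⁻¹))).symm ?_
            rw [hi, hl2, ho]; exact (hv.pow_right i).symm
        · have hcl : ∀ s : G, orderOf s = 2 → (orderOf (y ^ k)).Coprime (orderOf s) := fun s hs => by
            rw [hi, hs]; exact ((Nat.coprime_primes hl Nat.prime_two).2 hl2).pow_left i
          have ht' : orderOf (g * t * g⁻¹) = 2 :=
            (orderOf_injective (MulAut.conj g).toMonoidHom (MulAut.conj g).injective t).trans ht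
          exact le_inf (D.cent_le_of_b h (mem_cent.1 hx.1).symm (hcl _ ht))
            (D.cent_le_of_b h (mem_cent.1 hx.2).symm (hcl _ ht'))
      have e3 := cent_eq_of_cs_eq (hle.trans e'.ge) (h.trans hb.symm)
      refine mem_centralizer_iff.2 fun m hm => ?_
      have : m ∈ cent (y ^ k) := by
        rw [e3, e']
        exact ⟨hMt hm, mem_cent.2 (congrArg Subtype.val (mul_comm' (⟨m, hm⟩ : M) ⟨_, htM'⟩))⟩
      exact (mem_cent.1 this).eq
    · exact absurd (mem_cent.1 hx.1).symm (D.not_commute hta h)
  -- a Frobenius complement in the quotient by `C(M)`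
  set f := QuotientGroup.mk' N₀ with hf
  have hker : f.ker ≤ cent t := by rw [hf, QuotientGroup.ker_mk']; exact hN₀K
  have hcomap : ((cent t).map f).comap f = cent t := by
    rw [comap_map_eq, sup_eq_left.2 hker]
  have hfrob : Cfsg.IsFrobeniusComplement ((cent t).map f) := by
    refine ⟨fun h => hK fun x hx => ?_, fun h => ?_, fun q hq => ?_⟩
    · exact (QuotientGroup.eq_one_iff x).1 (mem_bot.1 (h ▸ mem_map_of_mem f hx))
    · rw [h, comap_top] at hcomap
      refine D.one_lt_a.ne' (hta.symm.trans ?_)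
      show (cent t).index = 1
      rw [← hcomap, index_top]
    obtain ⟨g, rfl⟩ := QuotientGroup.mk'_surjective N₀ q
    rw [eq_bot_iff]
    rintro y ⟨⟨k, hk, rfl⟩, hy⟩
    refine mem_bot.2 ((QuotientGroup.eq_one_iff k).2 (hinter g (fun h => hq (mem_map_of_mem f h)) ⟨hk, ?_⟩))
    replace hy : f k ∈ MulAut.conj (f g) • (cent t).map f := hy
    rw [GStructB.PElements.mem_conj_smul, ← map_inv, ← map_mul, ← map_mul,
      ← mem_comap, hcomap] at hy
    have := conj_mem_cent (c := g) hy
    rwa [show g * (g⁻¹ * k * g) * g⁻¹ = k by group] at this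
  obtain ⟨N, -, hNn, hNc⟩ := Cfsg.Agent.S0035.result _ hfrob
  haveI := hNn
  haveI : Group.IsSolvable N := by
    refine Cfsg.Agent.S0205.result ?_
    rw [← hNc.index_eq_card, index_map_eq _ (QuotientGroup.mk'_surjective N₀) hker,
      show (cent t).index = a from hta]
    exact Nat.not_even_iff_odd.1 fun he => h2 he.two_dvd
  haveI := D.isSolvable_cent h2 ht hta
  haveI : Group.IsSolvable ((G ⧸ N₀) ⧸ N) := by
    refine Group.isSolvable_of_surjective (f := ((QuotientGroup.mk' N).comp f).comp (cent t).subtype) fun q => ?_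
    obtain ⟨r, rfl⟩ := QuotientGroup.mk'_surjective N q
    obtain ⟨⟨n, _, k, hk, rfl⟩, e⟩ := hNc.existsUnique r |>.exists
    refine ⟨⟨k, hk⟩, ?_⟩
    show QuotientGroup.mk' N (f k) = QuotientGroup.mk' N r
    rw [← e, map_mul, show QuotientGroup.mk' N (n : G ⧸ N₀) = 1 from (QuotientGroup.eq_one_iff _).2 n.2,
      one_mul]
  haveI : Group.IsSolvable (G ⧸ N₀) := (Group.isSolvable_iff_subgroup_quotient N).2 ⟨inferInstance, inferInstance⟩
  haveI : Group.IsSolvable N₀ :=
    Group.isSolvable_of_isSolvable_injective (f := inclusion hN₀K) (inclusion_injective hN₀K)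
  exact D.hns ((Group.isSolvable_iff_subgroup_quotient N₀).2 ⟨inferInstance, inferInstance⟩)

end Sz

end Cfsg.Agent.CentrelessThree
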