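import Cfsg.Agent.ClassRankThree.Contain
import Cfsg.Agent.S4146
import Cfsg.Agent.S4161

/-! Centreless nonsoluble groups with three class sizes, one dividing another. -/

set_option autoImplicit false
set_option linter.style.haveILetI false

namespace Cfsg.Agent.CentrelessThree

open Subgroup
open GroupStructure3.ClassGraph (cs cs_conj cs_eq_one_iff index_inf_of_coprime centralizer_mul_eq cs_pow_dvd cs_ne_zero)
open GStructB.TwoSizes (cent IsL mem_cent self_mem_cent)
open ClassRankThree (card_cent_mul_cs cent_eq_of_cs_eq exists_conj_centralising exists_center_sylow ne_one_of_mul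
  ne_one_of_orderOf_prime AbCent mem_of_le_cent)

universe u

variable {G : Type u} [Group G] [Finite G]

/-- The three sizes, `a` properly dividing `b`. -/
structure Sz (G : Type u) [Group G] (a b c : ℕ) : Prop where
  hZ : center G = ⊥
  hns : ¬ Group.IsSolvable G
  vals : ∀ g : G, g ≠ 1 → cs g = a ∨ cs g = b ∨ cs g = c
  ea : ∃ g : G, g ≠ 1 ∧ cs g = a
  eb : ∃ g : G, g ≠ 1 ∧ cs g = b
  ec : ∃ g : G, g ≠ 1 ∧ cs g = c
  dvd_ab : a ∣ b
  ne_ab : a ≠ b
  ne_ac : a ≠ c
  ne_bc : b ≠ c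

namespace Sz

variable {a b c : ℕ} (D : Sz G a b c)
include D

omit [Finite G] in
theorem not_center {g : G} (hg : g ≠ 1) : g ∉ center G := by rw [D.hZ, mem_bot]; exact hg

theorem one_lt {m : ℕ} (h : ∃ g : G, g ≠ 1 ∧ cs g = m) : 1 < m := by
  obtain ⟨g, hg, rfl⟩ := h
  have := cs_ne_zero g
  have : cs g ≠ 1 := fun h => D.not_center hg (cs_eq_one_iff.1 h)
  omega

theorem one_lt_a : 1 < a := D.one_lt D.ea
theorem one_lt_b : 1 < b := D.one_lt D.eb
theorem one_lt_c : 1 < c := D.one_lt D.ec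

omit [Finite G] in
theorem ne_one_of_cs {g : G} {m : ℕ} (hg : cs g = m) (hm : 1 < m) : g ≠ 1 := fun e => by
  rw [e, cs_eq_one_iff.2 (one_mem _)] at hg; omega

theorem ne_one_a {g : G} (h : cs g = a) : g ≠ 1 := D.ne_one_of_cs h D.one_lt_a
theorem ne_one_b {g : G} (h : cs g = b) : g ≠ 1 := D.ne_one_of_cs h D.one_lt_b
theorem ne_one_c {g : G} (h : cs g = c) : g ≠ 1 := D.ne_one_of_cs h D.one_lt_c

omit [Finite G] in
theorem dvd_card_a : a ∣ Nat.card G := by
  obtain ⟨g, -, hg⟩ := D.ea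
  exact hg ▸ ⟨_, (card_cent_mul_cs g).symm.trans (mul_comm _ _)⟩

omit [Finite G] in
theorem dvd_card_c : c ∣ Nat.card G := by
  obtain ⟨g, -, hg⟩ := D.ec
  exact hg ▸ ⟨_, (card_cent_mul_cs g).symm.trans (mul_comm _ _)⟩

theorem cop : a.Coprime c := by
  refine Nat.coprime_of_dvd fun p hp h1 h2 => ?_
  haveI := Fact.mk hp
  obtain ⟨P⟩ : Nonempty (Sylow p G) := inferInstance
  obtain ⟨z, -, hz1, -, hz⟩ := exists_center_sylow (h1.trans D.dvd_card_a) P
  rcases D.vals z hz1 with h | h | h <;> rw [h] at hz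
  exacts [hz h1, hz (h1.trans D.dvd_ab), hz h2]

theorem min_b {z g : G} (hz : cs z = b) (hg : g ≠ 1) (hle : cent g ≤ cent z) : cent g = cent z := by
  have hd : b ∣ cs g := hz ▸ index_dvd_of_le hle
  refine cent_eq_of_cs_eq hle ?_
  rcases D.vals g hg with h | h | h <;> rw [h] at hd ⊢
  · exact absurd (Nat.dvd_antisymm D.dvd_ab hd) D.ne_ab
  · exact hz.symm
  · exact absurd (D.cop.eq_one_of_dvd (D.dvd_ab.trans hd)) D.one_lt_a.ne'

theorem cent_le_of_b {z h : G} (hz : cs z = b) (hc : Commute h z)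
    (hcop : (orderOf z).Coprime (orderOf h)) : cent z ≤ cent h := by
  have e : cent (z * h) = cent z ⊓ cent h := centralizer_mul_eq hc.symm hcop
  exact (D.min_b hz (ne_one_of_mul (D.ne_one_b hz) hcop) (e.le.trans inf_le_left)).ge.trans
    (e.le.trans inf_le_right)

theorem component_a {g : G} (hg : cs g = a) :
    ∃ l : ℕ, l.Prime ∧ ∃ k : ℕ, IsL l (g ^ k) ∧ cs (g ^ k) = a := by
  obtain ⟨l, hl, k, hk, hkc⟩ := GStructB.TwoSizes.exists_primary (D.not_center (D.ne_one_a hg))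
  refine ⟨l, hl, k, hk, ?_⟩
  have hd : cs (g ^ k) ∣ a := hg ▸ cs_pow_dvd g k
  rcases D.vals (g ^ k) (fun e => hkc (by rw [e]; exact one_mem _)) with h | h | h <;> rw [h] at hd ⊢
  · exact absurd (Nat.dvd_antisymm D.dvd_ab hd) D.ne_ab
  · exact absurd (D.cop.symm.eq_one_of_dvd hd) D.one_lt_c.ne'

theorem component_c {g : G} (hg : cs g = c) :
    ∃ l : ℕ, l.Prime ∧ ∃ k : ℕ, IsL l (g ^ k) ∧ cs (g ^ k) = c := by
  obtain ⟨l, hl, k, hk, hkc⟩ := GStructB.TwoSizes.exists_primary (D.not_center (D.ne_one_c hg))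
  refine ⟨l, hl, k, hk, ?_⟩
  have hd : cs (g ^ k) ∣ c := hg ▸ cs_pow_dvd g k
  rcases D.vals (g ^ k) (fun e => hkc (by rw [e]; exact one_mem _)) with h | h | h <;> rw [h] at hd ⊢
  · exact absurd (D.cop.eq_one_of_dvd hd) D.one_lt_a.ne'
  · exact absurd (D.cop.eq_one_of_dvd (D.dvd_ab.trans hd)) D.one_lt_a.ne'

/-- Some prime divides both `b` and `c`. -/
theorem exists_prime_bc : ∃ q : ℕ, q.Prime ∧ q ∣ b ∧ q ∣ c := by
  by_contra hno
  push Not at hno
  obtain ⟨p, hp, hpa⟩ := Nat.exists_prime_and_dvd D.one_lt_a.ne'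
  obtain ⟨q, hq, hqc⟩ := Nat.exists_prime_and_dvd D.one_lt_c.ne'
  obtain ⟨y, -, hy⟩ := D.ea
  obtain ⟨w, -, hw⟩ := D.ec
  have hside : ∀ x : G, ∀ r s : ℕ, r.Prime → s.Prime → r * s ∣ cs x → s ∣ c → r ∣ c := by
    intro x r s hr hs hd hsc
    have hsx : s ∣ cs x := (dvd_mul_left s r).trans hd
    have hx : x ≠ 1 := fun e => by
      rw [e, cs_eq_one_iff.2 (one_mem _)] at hsx
      exact hs.not_dvd_one hsx
    rcases D.vals x hx with h | h | h
    · exact absurd hsc (hno s hs ((h ▸ hsx : s ∣ a).trans D.dvd_ab))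
    · exact absurd hsc (hno s hs (h ▸ hsx))
    · exact h ▸ (dvd_mul_right r s).trans hd
  have hpc : ¬ p ∣ c := fun h => hp.not_dvd_one (D.cop ▸ Nat.dvd_gcd hpa h)
  have hpq : p ≠ q := fun e => hpc (e ▸ hqc)
  rcases Cfsg.Agent.S4161.result D.hns p q hp hq hpq ⟨y, show p ∣ cs y from hy.symm ▸ hpa⟩
    ⟨w, show q ∣ cs w from hw.symm ▸ hqc⟩ with ⟨x, hx⟩ | ⟨r, hr, -, -, ⟨x, hx⟩, ⟨x', hx'⟩⟩
  · exact hpc (hside x p q hp hq hx hqc)
  · exact hpc (hside x p r hp hr hx (hside x' r q hr hq hx' hqc))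

theorem b_eq_mul {u w : G} (hu : cs u = a) (hw : cs w = c) (h : Commute u w)
    (hc : (orderOf u).Coprime (orderOf w)) : b = a * c := by
  have hi : cs (u * w) = a * c := by
    rw [cs, centralizer_mul_eq h hc,
      (index_inf_of_coprime (show (cent u).index.Coprime (cent w).index by
        show (cs u).Coprime (cs w); rw [hu, hw]; exact D.cop)).1]
    show cs u * cs w = _
    rw [hu, hw]
  rcases D.vals _ (ne_one_of_mul (D.ne_one_a hu) hc) with h' | h' | h' <;> rw [hi] at h'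
  · exact absurd ((Nat.mul_eq_left (by have := D.one_lt_a; omega)).1 h') D.one_lt_c.ne'
  · exact h'.symm
  · exact absurd ((Nat.mul_eq_right (by have := D.one_lt_c; omega)).1 h') D.one_lt_a.ne'

/-- No element of size `a` commutes with one of size `c`. -/
theorem not_commute {u w : G} (hu : cs u = a) (hw : cs w = c) : ¬ Commute u w := by
  intro hcomm
  suffices hb : b = a * c by
    have hset : Set.range (fun x : G => (centralizer ({x} : Set G)).index) = ({1, a, c, a * c} : Set ℕ) := by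
      ext v
      constructor
      · rintro ⟨x, rfl⟩
        show cs x ∈ _
        simp only [Set.mem_insert_iff, Set.mem_singleton_iff]
        by_cases hx : x = 1
        · exact Or.inl (hx ▸ cs_eq_one_iff.2 (one_mem _))
        rcases D.vals x hx with h | h | h <;> simp [h, hb]
      · simp only [Set.mem_insert_iff, Set.mem_singleton_iff]
        rintro (rfl | rfl | rfl | rfl)
        · exact ⟨1, cs_eq_one_iff.2 (one_mem _)⟩
        · exact ⟨u, hu⟩
        · exact ⟨w, hw⟩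
        · obtain ⟨x, -, hx⟩ := D.eb
          exact ⟨x, hx.trans hb⟩
    haveI := (Cfsg.Agent.S4146.result a c D.one_lt_a D.one_lt_c D.cop hset).1
    exact D.hns inferInstance
  obtain ⟨l, hl, i, hul, hua⟩ := D.component_a hu
  obtain ⟨r, hr, j, hwr, hwc⟩ := D.component_c hw
  have hc' : Commute (u ^ i) (w ^ j) := hcomm.pow_pow i j
  by_cases hlr : l = r
  swap
  · exact D.b_eq_mul hua hwc hc' (GStructB.TwoSizes.coprime_of_isL hl hr hlr hul hwr)
  subst hlr
  by_cases hex : ∃ p : ℕ, p.Prime ∧ p ∣ a ∧ p ≠ l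
  · obtain ⟨p, hp, hpa, hpl⟩ := hex
    haveI := Fact.mk hp
    have hpc : ¬ p ∣ c := fun h => hp.not_dvd_one (D.cop ▸ Nat.dvd_gcd hpa h)
    obtain ⟨P⟩ : Nonempty (Sylow p G) := inferInstance
    obtain ⟨z, hzP, hz1, hPz, hzn⟩ := exists_center_sylow (hpa.trans D.dvd_card_a) P
    have hsize : ∀ g : G, g ≠ 1 → (P : Subgroup G) ≤ cent g → cs g = c := fun g hg hPg => by
      have hn : ¬ p ∣ cs g := fun h => P.not_dvd_index (h.trans (index_dvd_of_le hPg))
      rcases D.vals g hg with h | h | h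
      · exact absurd (h.symm ▸ hpa) hn
      · exact absurd (h.symm ▸ hpa.trans D.dvd_ab) hn
      · exact h
    obtain ⟨d, hd⟩ := exists_conj_centralising (g := w ^ j) (by rw [hwc]; exact hpc) P
    have hzw : Commute z (d * w ^ j * d⁻¹) := mem_cent.1 (hd hzP)
    have hzl : IsL p z := GStructB.TwoSizes.isL_of_mem P.2 hzP
    have hco := GStructB.TwoSizes.coprime_of_isL hp hl hpl hzl (GStructB.TwoSizes.isL_conj hwr d)
    have e : cent (z * (d * w ^ j * d⁻¹)) = cent z ⊓ cent (d * w ^ j * d⁻¹) := centralizer_mul_eq hzw hco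
    have hzc := hsize z hz1 hPz
    have hm := hsize _ (ne_one_of_mul hz1 hco) (e ▸ le_inf hPz hd)
    have e1 := cent_eq_of_cs_eq (e.le.trans inf_le_left) (hm.trans hzc.symm)
    have e2 := cent_eq_of_cs_eq (e.le.trans inf_le_right) (hm.trans (((cs_conj _ _).trans hwc)).symm)
    have hu' : d * u ^ i * d⁻¹ ∈ cent z := by
      rw [← e1, e2]
      exact mem_cent.2 (hc'.map (MulAut.conj d).toMonoidHom)
    exact D.b_eq_mul ((cs_conj _ _).trans hua) hzc (mem_cent.1 hu')
      (GStructB.TwoSizes.coprime_of_isL hl hp (Ne.symm hpl) (GStructB.TwoSizes.isL_conj hul d) hzl)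
  · push Not at hex
    obtain ⟨q, hq, hqb, hqc⟩ := D.exists_prime_bc
    haveI := Fact.mk hq
    have hqa : ¬ q ∣ a := fun h => hq.not_dvd_one (D.cop ▸ Nat.dvd_gcd h hqc)
    have hql : q ≠ l := by
      obtain ⟨p, hp, hpa⟩ := Nat.exists_prime_and_dvd D.one_lt_a.ne'
      exact fun e => hqa (e ▸ hex p hp hpa ▸ hpa)
    obtain ⟨P⟩ : Nonempty (Sylow q G) := inferInstance
    obtain ⟨z, hzP, hz1, hPz, hzn⟩ := exists_center_sylow (hqc.trans D.dvd_card_c) P
    have hsize : ∀ g : G, g ≠ 1 → (P : Subgroup G) ≤ cent g → cs g = a := fun g hg hPg => by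
      have hn : ¬ q ∣ cs g := fun h => P.not_dvd_index (h.trans (index_dvd_of_le hPg))
      rcases D.vals g hg with h | h | h
      · exact h
      · exact absurd (h.symm ▸ hqb) hn
      · exact absurd (h.symm ▸ hqc) hn
    obtain ⟨d, hd⟩ := exists_conj_centralising (g := u ^ i) (by rw [hua]; exact hqa) P
    have hzu : Commute z (d * u ^ i * d⁻¹) := mem_cent.1 (hd hzP)
    have hzl : IsL q z := GStructB.TwoSizes.isL_of_mem P.2 hzP
    have hco := GStructB.TwoSizes.coprime_of_isL hq hl hql hzl (GStructB.TwoSizes.isL_conj hul d)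
    have e : cent (z * (d * u ^ i * d⁻¹)) = cent z ⊓ cent (d * u ^ i * d⁻¹) := centralizer_mul_eq hzu hco
    have hza := hsize z hz1 hPz
    have hm := hsize _ (ne_one_of_mul hz1 hco) (e ▸ le_inf hPz hd)
    have e1 := cent_eq_of_cs_eq (e.le.trans inf_le_left) (hm.trans hza.symm)
    have e2 := cent_eq_of_cs_eq (e.le.trans inf_le_right) (hm.trans (((cs_conj _ _).trans hua)).symm)
    have hw' : d * w ^ j * d⁻¹ ∈ cent z := by
      rw [← e1, e2]
      exact mem_cent.2 (hc'.symm.map (MulAut.conj d).toMonoidHom)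
    exact D.b_eq_mul hza ((cs_conj _ _).trans hwc) (mem_cent.1 hw').symm
      (GStructB.TwoSizes.coprime_of_isL hq hl hql hzl (GStructB.TwoSizes.isL_conj hwr d))

theorem split {p : ℕ} (hp : p.Prime) (hpG : p ∣ Nat.card G) : p ∣ a ∨ p ∣ c := by
  haveI := Fact.mk hp
  by_contra hno
  push Not at hno
  obtain ⟨y, -, hy⟩ := D.ea
  obtain ⟨w, -, hw⟩ := D.ec
  obtain ⟨l, hl, i, hY, hYa⟩ := D.component_a hy
  obtain ⟨r, hr, j, hW, hWc⟩ := D.component_c hw
  obtain ⟨P⟩ : Nonempty (Sylow p G) := inferInstance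
  obtain ⟨d, hd⟩ := exists_conj_centralising (g := y ^ i) (by rw [hYa]; exact hno.1) P
  obtain ⟨e, he⟩ := exists_conj_centralising (g := w ^ j) (by rw [hWc]; exact hno.2) P
  replace hYa : cs (d * y ^ i * d⁻¹) = a := (cs_conj _ _).trans hYa
  replace hWc : cs (e * w ^ j * e⁻¹) = c := (cs_conj _ _).trans hWc
  replace hY := GStructB.TwoSizes.isL_conj hY d
  replace hW := GStructB.TwoSizes.isL_conj hW e
  have hn := D.not_commute hYa hWc
  obtain ⟨z, hzP, hz1, hPz, -⟩ := exists_center_sylow hpG P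
  have hzY : Commute z (d * y ^ i * d⁻¹) := mem_cent.1 (hd hzP)
  have hzW : Commute z (e * w ^ j * e⁻¹) := mem_cent.1 (he hzP)
  have hzl : IsL p z := GStructB.TwoSizes.isL_of_mem P.2 hzP
  rcases D.vals z hz1 with h | h | h
  · exact D.not_commute h hWc hzW
  · by_cases hlp : l = p
    · subst hlp
      have hYP := mem_of_le_cent P hY hd
      by_cases hrp : r = l
      · subst hrp
        exact hn (mem_cent.1 (he hYP))
      · have hle := D.cent_le_of_b h hzW.symm (GStructB.TwoSizes.coprime_of_isL hp hr (Ne.symm hrp) hzl hW)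
        exact hn (mem_cent.1 (hle (mem_cent.2 hzY.symm)))
    · have hle := D.cent_le_of_b h hzY.symm (GStructB.TwoSizes.coprime_of_isL hp hl (Ne.symm hlp) hzl hY)
      exact hn (mem_cent.1 (hle (mem_cent.2 hzW.symm))).symm
  · exact D.not_commute hYa h hzY.symm

theorem no_part {α γ : ℕ} (hN : ∀ u w : G, cs u = α → cs w = γ → ¬ Commute u w)
    (hvals : ∀ g : G, g ≠ 1 → cs g = α ∨ cs g = b ∨ cs g = γ) {p : ℕ} (hp : p.Prime)
    (hpγ : ¬ p ∣ γ) {l : ℕ} (hl : l.Prime) {Y : G} (hY : IsL l Y) (hYa : cs Y = α) {W : G}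
    (hW : cs W = γ) : ¬ p ∣ Nat.card (cent Y) := by
  haveI := Fact.mk hp
  intro hdvd
  have hlp : l ≠ p := by
    rintro rfl
    obtain ⟨k, hk⟩ := hY
    obtain ⟨P, hP⟩ := (IsPGroup.of_card (n := k) (by rw [Nat.card_zpowers, hk]) :
      IsPGroup l (zpowers Y)).exists_le_sylow
    obtain ⟨d, hd⟩ := exists_conj_centralising (g := W) (by rw [hW]; exact hpγ) P
    exact hN Y _ hYa ((cs_conj _ _).trans hW) (mem_cent.1 (hd (hP (mem_zpowers Y))))
  obtain ⟨u, hu⟩ := exists_prime_orderOf_dvd_card' (G := cent Y) p hdvd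
  rw [← Subgroup.orderOf_coe] at hu
  have huY : Commute (u : G) Y := mem_cent.1 u.2
  obtain ⟨P, hP⟩ := (IsPGroup.of_card (n := 1) (by rw [Nat.card_zpowers, hu, pow_one]) :
    IsPGroup p (zpowers (u : G))).exists_le_sylow
  obtain ⟨d, hd⟩ := exists_conj_centralising (g := W) (by rw [hW]; exact hpγ) P
  have huW : Commute (u : G) (d * W * d⁻¹) := mem_cent.1 (hd (hP (mem_zpowers _)))
  rcases hvals _ (ne_one_of_orderOf_prime hp hu) with h | h | h
  · exact hN _ _ h ((cs_conj _ _).trans hW) huW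
  · refine hN Y (d * W * d⁻¹) hYa ((cs_conj _ _).trans hW) ?_
    exact (mem_cent.1 (D.cent_le_of_b h huY.symm
      (GStructB.TwoSizes.coprime_of_isL hp hl (Ne.symm hlp) ⟨1, by rw [hu, pow_one]⟩ hY)
      (mem_cent.2 huW.symm))).symm
  · exact hN Y _ hYa h huY.symm

theorem card_eq : Nat.card G = a * c := by
  obtain ⟨y, -, hy⟩ := D.ea
  obtain ⟨w, -, hw⟩ := D.ec
  obtain ⟨l, hl, i, hY, hYa⟩ := D.component_a hy
  obtain ⟨r, hr, j, hW, hWc⟩ := D.component_c hw
  have hYn : ∀ p, p.Prime → p ∣ Nat.card (cent (y ^ i)) → p ∣ c := fun p hp h => by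
    by_contra hc
    exact D.no_part (α := a) (γ := c) (fun u w => D.not_commute) D.vals hp hc hl hY hYa hWc h
  have hWn : ∀ p, p.Prime → p ∣ Nat.card (cent (w ^ j)) → p ∣ a := fun p hp h => by
    by_contra ha
    refine D.no_part (α := c) (γ := a) (fun u w hu hw h => D.not_commute hw hu h.symm)
      (fun g hg => ?_) hp ha hr hW hWc hYa h
    rcases D.vals g hg with h | h | h <;> simp [h]
  have hWc' : (Nat.card (cent (w ^ j))).Coprime c := Nat.coprime_of_dvd fun p hp h1 h2 =>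
    hp.not_dvd_one (D.cop ▸ Nat.dvd_gcd (hWn p hp h1) h2)
  have hYW : (Nat.card (cent (w ^ j))).Coprime (Nat.card (cent (y ^ i))) := Nat.coprime_of_dvd fun p hp h1 h2 =>
    hp.not_dvd_one (D.cop ▸ Nat.dvd_gcd (hWn p hp h1) (hYn p hp h2))
  have e : Nat.card (cent (w ^ j)) * c = Nat.card (cent (y ^ i)) * a := by
    rw [← hWc, ← hYa, card_cent_mul_cs, card_cent_mul_cs]
  have hWa : Nat.card (cent (w ^ j)) = a := Nat.dvd_antisymm
    (hYW.dvd_of_dvd_mul_left ⟨c, e.symm⟩) (D.cop.dvd_of_dvd_mul_right ⟨Nat.card (cent (y ^ i)), by rw [e, mul_comm]⟩)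
  rw [← card_cent_mul_cs (w ^ j), hWa, hWc]

theorem card_cent_c {g : G} (h : cs g = c) : Nat.card (cent g) = a := by
  have e := card_cent_mul_cs g
  rw [h, D.card_eq] at e
  exact Nat.eq_of_mul_eq_mul_right (by have := D.one_lt_c; omega) e

theorem card_cent_a {g : G} (h : cs g = a) : Nat.card (cent g) = c := by
  have e := card_cent_mul_cs g
  rw [h, D.card_eq, mul_comm a c] at e
  exact Nat.eq_of_mul_eq_mul_right (by have := D.one_lt_a; omega) e

theorem card_cent_b_dvd {g : G} (h : cs g = b) : Nat.card (cent g) ∣ c := by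
  obtain ⟨m, hm⟩ := D.dvd_ab
  have e := card_cent_mul_cs g
  rw [h, hm, D.card_eq] at e
  refine ⟨m, Nat.eq_of_mul_eq_mul_left (show 0 < a by have := D.one_lt_a; omega) ?_⟩
  rw [← e]; ring

theorem cs_c_of_order {g : G} (hg : g ≠ 1) (h : ¬ (orderOf g).Coprime a) : cs g = c := by
  by_contra hne
  refine h ?_
  have hd : Nat.card (cent g) ∣ c := by
    rcases D.vals g hg with h' | h' | h'
    · exact (D.card_cent_a h').dvd
    · exact D.card_cent_b_dvd h'
    · exact absurd h' hne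
  exact D.cop.symm.coprime_dvd_left ((Subgroup.orderOf_dvd_natCard _ (self_mem_cent g)).trans hd)

theorem orderOf_dvd_a_of_c {u g : G} (hu : cs u = c) (hc : Commute g u) : orderOf g ∣ a := by
  rw [← D.card_cent_c hu]
  exact Subgroup.orderOf_dvd_natCard _ (mem_cent.2 hc)

theorem qc_closed {u : G} (hu : cs u = c) (g : G) (hc : Commute g u) (hg : g ≠ 1) : cs g = c :=
  D.cs_c_of_order hg fun h =>
    hg (orderOf_eq_one_iff.1 (Nat.eq_one_of_dvd_coprimes h dvd_rfl (D.orderOf_dvd_a_of_c hu hc)))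

theorem qc_one : (1 : G) ∉ {g : G | cs g = c} := fun h => D.ne_one_c h rfl

theorem abCent_of_even (h2 : 2 ∣ a) {t : G} (ht : orderOf t = 2) : AbCent t := by
  refine ClassRankThree.abCent_involution (Q := {g : G | cs g = c}) D.qc_one
    (fun u hu g hg hg1 => D.qc_closed hu g hg hg1)
    (fun _ hg _ hh hle => cent_eq_of_cs_eq hle (hg.trans hh.symm)) ?_ ht
  exact D.cs_c_of_order (ne_one_of_orderOf_prime Nat.prime_two ht) fun h =>
    absurd (ht ▸ Nat.eq_one_of_dvd_coprimes h (dvd_refl _) (ht.symm ▸ h2)) (by norm_num)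

end Sz

end Cfsg.Agent.CentrelessThree
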