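import Cfsg.Agent.CentrelessThree.Alpha

/-! Counting the elements: two partition classes give a contradiction. -/

set_option autoImplicit false
set_option linter.style.haveILetI false

namespace Cfsg.Agent.CentrelessThree

open Subgroup
open GroupStructure3.ClassGraph (cs cs_conj exists_conj_le exists_mul_of_coprime)
open GStructB.TwoSizes (cent IsL mem_cent self_mem_cent conj_mem_cent isL_of_mem)
open ClassRankThree (cent_eq_of_cs_eq exists_center_sylow ne_one_of_orderOf_prime CC)
open scoped Pointwise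

universe u

variable {G : Type u} [Group G] [Finite G]

/-- Nontrivial elements with a conjugate in `X`. -/
def conjSharp (X : Subgroup G) : Set G := {g | g ≠ 1 ∧ ∃ d : G, d * g * d⁻¹ ∈ X}

theorem ncard_conjSharp_mul_le (X : Subgroup G) :
    (conjSharp X).ncard * Nat.card (normalizer (X : Set G)) ≤ (Nat.card X - 1) * Nat.card G := by
  set N := normalizer (X : Set G) with hN
  let Y : Set G := (X : Set G) \ {1}
  have hY : Y.ncard = Nat.card X - 1 := by
    rw [Set.ncard_sdiff_singleton_of_mem X.one_mem, ← Nat.card_coe_set_eq]; rfl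
  let f : (G ⧸ N) × Y → G := fun w => w.1.out * (w.2 : G) * w.1.out⁻¹
  have hsub : conjSharp X ⊆ Set.range f := by
    rintro g ⟨hg, d, hd⟩
    obtain ⟨⟨n, hn⟩, he⟩ := QuotientGroup.mk_out_eq_mul N d⁻¹
    refine ⟨(QuotientGroup.mk d⁻¹, ⟨n⁻¹ * (d * g * d⁻¹) * n, ?_, ?_⟩), ?_⟩
    · have := (mem_normalizer_iff.1 (inv_mem hn) _).1 hd
      rwa [inv_inv] at this
    · intro e
      refine hg ?_
      calc g = d⁻¹ * n * (n⁻¹ * (d * g * d⁻¹) * n) * n⁻¹ * d := by group
        _ = 1 := by rw [Set.mem_singleton_iff.1 e]; group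
    · simp only [f, he]
      group
  have h1 : (conjSharp X).ncard ≤ N.index * Y.ncard := by
    refine (Set.ncard_le_ncard hsub (Set.toFinite _)).trans ?_
    rw [← Nat.card_coe_set_eq, ← Nat.card_coe_set_eq, Subgroup.index, ← Nat.card_prod]
    exact Finite.card_range_le f
  refine (Nat.mul_le_mul_right _ h1).trans (le_of_eq ?_)
  rw [hY, ← card_mul_index N]
  ring

/-- An abelian self-normalising subgroup which is the centraliser of each nontrivial element of a
Sylow subgroup it contains gives a normal complement. -/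
theorem complement_of_cent {l : ℕ} [Fact l.Prime] {X : Subgroup G} (hab : ∀ x ∈ X, ∀ y ∈ X, Commute x y)
    (hN : normalizer (X : Set G) ≤ X) (hidx : ¬ l ∣ X.index) (hl : l ∣ Nat.card G)
    (hc : ∀ z ∈ X, z ≠ 1 → IsL l z → cent z = X) : Cfsg.HasNormalPComplement l G := by
  obtain ⟨T⟩ : Nonempty (Sylow l G) := inferInstance
  obtain ⟨d, hd⟩ := exists_conj_le hidx T
  have hle : ((d • T : Sylow l G) : Subgroup G) ≤ X := fun x hx => by
    rw [Sylow.coe_subgroup_smul, GStructB.PElements.mem_conj_smul] at hx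
    have := hd _ hx
    rwa [show d * (d⁻¹ * x * d) * d⁻¹ = x by group] at this
  generalize d • T = P at hle
  refine complement_of_normalizer_le P fun x hx => ?_
  obtain ⟨z, hzP, hz1, -, -⟩ := exists_center_sylow hl P
  have hzx : x * z * x⁻¹ ∈ (P : Subgroup G) := (mem_normalizer_iff.1 hx z).1 hzP
  have e := hc z (hle hzP) hz1 (isL_of_mem P.2 hzP)
  have e' := hc _ (hle hzx) (fun h => hz1 (conj_eq_one_iff.1 h)) (isL_of_mem P.2 hzx)
  have hxX : x ∈ X := hN (mem_normalizer_fintype fun k hk => by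
    have := conj_mem_cent (c := x) (e.symm ▸ hk : k ∈ cent z)
    rwa [e'] at this)
  exact mem_centralizer_iff.2 fun y hy => (hab y (hle hy) x hxX).eq

namespace Sz

variable {a b c : ℕ} (D : Sz G a b c) (h2 : ¬ 2 ∣ a)
include D h2

omit h2 in
theorem b_ne_c_dvd {l : ℕ} (hl : l.Prime) (hlc : l ∣ c) (hnoA : ∀ g : G, (orderOf g).Coprime 2 → cs g ≠ a)
    (hl2 : l ≠ 2) {g : G} {i : ℕ} (hg : orderOf g = l ^ i) (hg1 : g ≠ 1) : cs g = b := by
  have hi : i ≠ 0 := fun h => hg1 (orderOf_eq_one_iff.1 (by rw [hg, h, pow_zero]))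
  rcases D.vals g hg1 with h | h | h
  · exact absurd h (hnoA g (hg ▸ ((Nat.coprime_primes hl Nat.prime_two).2 hl2).pow_left i))
  · exact h
  · exact absurd h (D.cs_ne_c hl hlc (hg ▸ dvd_pow_self l hi))

omit h2 in
theorem not_dvd_b (hnoA : ∀ g : G, (orderOf g).Coprime 2 → cs g ≠ a) {l : ℕ} (hl : l.Prime) (hlc : l ∣ c)
    (hl2 : l ≠ 2) : ¬ l ∣ b := by
  haveI := Fact.mk hl
  obtain ⟨P⟩ : Nonempty (Sylow l G) := inferInstance
  obtain ⟨z, hzP, hz1, -, hz⟩ := exists_center_sylow (hlc.trans D.dvd_card_c) P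
  obtain ⟨i, hi⟩ := GStructB.PElements.exists_orderOf_eq P.2 hzP
  rwa [D.b_ne_c_dvd hl hlc hnoA hl2 hi hz1] at hz

variable {M : Subgroup G} [M.Normal] [IsMulCommutative M]

theorem false_of_abelian_two (hM : IsPGroup 2 M) (hM1 : M ≠ ⊥) : False := by
  classical
  haveI := Fact.mk Nat.prime_two
  have hnoA : ∀ g : G, (orderOf g).Coprime 2 → cs g ≠ a := fun g hg h => D.no_odd_a h2 hM hM1 hg h
  obtain ⟨H, hH, hHc, hHi, hHx⟩ := D.exists_cc h2 hM hM1
  haveI : IsMulCommutative H := ⟨⟨hH.comm⟩⟩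
  have hHnil : Group.IsNilpotent H := Components.Fitting.isNilpotent_of_isMulCommutative H
  obtain ⟨S⟩ : Nonempty (Sylow 2 G) := inferInstance
  obtain ⟨t, htM, ht, -, hta⟩ := D.exists_involution_sylow h2 S hM hM1
  set N₀ := centralizer (M : Set G) with hN₀
  have hN₀K : N₀ ≤ cent t := n0_le htM
  haveI := D.isSolvable_cent h2 ht hta
  haveI : Group.IsSolvable N₀ :=
    Group.isSolvable_of_isSolvable_injective (f := inclusion hN₀K) (inclusion_injective hN₀K)
  -- an odd prime of `c`
  obtain ⟨l, hl, hlc, hl2⟩ : ∃ l : ℕ, l.Prime ∧ l ∣ c ∧ l ≠ 2 := by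
    by_contra hno
    push Not at hno
    have e := Nat.eq_prime_pow_of_unique_prime_dvd (n := c) (p := 2) (by have := D.one_lt_c; omega)
      fun {q} hq hqc => hno q hq hqc
    have hK : IsPGroup 2 (cent t) := IsPGroup.of_card (by rw [D.card_cent_a hta]; exact e)
    refine D.hns (SolvStruct.Kegel.isSolvable _ G H (cent t) rfl hHnil hK.isNilpotent fun g => ?_)
    exact exists_mul_of_coprime (by rw [hHi, show (cent t).index = a from hta]; exact D.cop) g
  haveI := Fact.mk hl
  -- a two-element of size `b`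
  obtain ⟨v, i, hvo, hvb⟩ : ∃ v : G, ∃ i : ℕ, orderOf v = 2 ^ i ∧ cs v = b := by
    by_contra hno
    push Not at hno
    refine D.hns (isSolvable_of_normal_odd_index N₀ (TwoRegClass.not_dvd_index_of_forall fun x hx => ?_))
    by_cases hx1 : x = 1
    · rw [hx1]; exact one_mem _
    obtain ⟨i, hi⟩ := hx
    rcases D.vals x hx1 with h | h | h
    · exact mem_n0_of_a h2 hM h
    · exact absurd h (hno x i hi)
    · exact absurd h (D.cs_ne_c Nat.prime_two (D.two_dvd_c h2)
        (hi ▸ dvd_pow_self 2 fun h => hx1 (orderOf_eq_one_iff.1 (by rw [hi, h, pow_zero]))))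
  set E := cent v with hE
  have hEb : E.index = b := hvb
  have hlb := D.not_dvd_b hnoA hl hlc hl2
  have hlcard : ∀ {u : G}, cs u = b → l ∣ Nat.card (cent u) := fun {u} hu => by
    have h := card_mul_index (cent u)
    rw [show (cent u).index = b from hu] at h
    exact (hl.dvd_mul.1 (h.symm ▸ hlc.trans D.dvd_card_c)).resolve_right hlb
  have hprime : ∀ {u : G}, cs u = b → ∀ {j : ℕ}, orderOf u = 2 ^ j →
      ∃ y : G, orderOf y = l ∧ cs y = b ∧ cent y = cent u := by
    intro u hu j huo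
    obtain ⟨y, hy⟩ := exists_prime_orderOf_dvd_card' (G := cent u) l (hlcard hu)
    rw [← Subgroup.orderOf_coe] at hy
    have hyb := D.b_ne_c_dvd hl hlc hnoA hl2 (i := 1) (by rw [hy, pow_one])
      (ne_one_of_orderOf_prime hl hy)
    have hco : (orderOf u).Coprime (orderOf (y : G)) := by
      rw [huo, hy]; exact ((Nat.coprime_primes Nat.prime_two hl).2 hl2.symm).pow_left j
    exact ⟨y, hy, hyb, le_antisymm (D.cent_le_of_b hyb (mem_cent.1 y.2).symm hco.symm)
      (D.cent_le_of_b hu (mem_cent.1 y.2) hco)⟩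
  obtain ⟨g, hgo, hgb, hgE⟩ := hprime hvb hvo
  have hEab : ∀ x ∈ E, ∀ y ∈ E, Commute x y := by
    intro x hx y hy
    refine mem_cent.1 (TwoRegClass.mem_of_primary (C := cent y) (y := x) fun r k hr _ hrk => ?_)
    obtain ⟨j, hj⟩ := hrk
    refine mem_cent.2 ?_
    have hxk : x ^ k ∈ E := pow_mem hx k
    by_cases hr2 : r = 2
    · have hle := D.cent_le_of_b hgb (mem_cent.1 (hgE.symm ▸ hxk : x ^ k ∈ cent g))
        (by rw [hgo, hj, hr2]; exact ((Nat.coprime_primes hl Nat.prime_two).2 hl2).pow_right j)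
      exact (mem_cent.1 (hle (hgE.symm ▸ hy : y ∈ cent g))).symm
    · have hle := D.cent_le_of_b hvb (mem_cent.1 hxk)
        (by rw [hvo, hj]; exact ((Nat.coprime_primes Nat.prime_two hr).2 (Ne.symm hr2)).pow i j)
      exact (mem_cent.1 (hle hy)).symm
  have hEcent : ∀ {y : G}, y ∈ E → cs y = b → cent y = E := fun {y} hy hyb =>
    (cent_eq_of_cs_eq (fun x hx => mem_cent.2 (hEab x hx y hy)) (hvb.trans hyb.symm)).symm
  have hEx : ∀ x : G, cs x = b → ∃ d : G, d * x * d⁻¹ ∈ E := by
    intro x hxb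
    obtain ⟨r, j, hr, hrc, hr2, y, hyo, hy1, hyb, hxy⟩ : ∃ r j : ℕ, r.Prime ∧ r ∣ c ∧ r ≠ 2 ∧
        ∃ y : G, orderOf y = r ^ j ∧ y ≠ 1 ∧ cs y = b ∧ Commute x y := by
      by_cases hodd : ∃ r : ℕ, r.Prime ∧ r ∣ orderOf x ∧ r ≠ 2
      · obtain ⟨r, hr, hrx, hr2⟩ := hodd
        haveI := Fact.mk hr
        have hrc : r ∣ c := hrx.trans
          ((Subgroup.orderOf_dvd_natCard _ (self_mem_cent x)).trans (D.card_cent_b_dvd hxb))
        obtain ⟨j, s, hord, hrs, hso⟩ := GStructB.PElements.exists_split r x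
        have hj : j ≠ 0 := fun h => hrs (by rw [hord, h, pow_zero, one_mul] at hrx; exact hrx)
        have hy1 : x ^ s ≠ 1 := fun h => hj ((Nat.pow_eq_one.1 (hso.symm.trans (by rw [h, orderOf_one]))).resolve_left hr.one_lt.ne')
        exact ⟨r, j, hr, hrc, hr2, _, hso, hy1, D.b_ne_c_dvd hr hrc hnoA hr2 hso hy1,
          (Commute.refl x).pow_right s⟩
      · push Not at hodd
        have e := Nat.eq_prime_pow_of_unique_prime_dvd (n := orderOf x) (p := 2) (orderOf_pos x).ne'
          fun {q} hq hqx => hodd q hq hqx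
        obtain ⟨y, hyo, hyb, hy⟩ := hprime hxb e
        exact ⟨l, 1, hl, hlc, hl2, y, by rw [hyo, pow_one], ne_one_of_orderOf_prime hl hyo, hyb,
          mem_cent.1 (hy ▸ self_mem_cent x : x ∈ cent y)⟩
    haveI := Fact.mk hr
    obtain ⟨P, hP⟩ := GStructB.PElements.exists_mem_sylow hyo
    obtain ⟨d, hd⟩ := exists_conj_le (A := E) (by rw [hEb]; exact D.not_dvd_b hnoA hr hrc hr2) P
    refine ⟨d, ?_⟩
    rw [← hEcent (hd _ hP) ((cs_conj d y).trans hyb)]
    exact mem_cent.2 (hxy.map (MulAut.conj d).toMonoidHom)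
  -- both normalisers are larger
  have hNH : ¬ normalizer (H : Set G) ≤ H := by
    intro hN
    refine D.false_of_quotients fun p hp hpa => ?_
    haveI := Fact.mk hp
    exact exists_of_complement (complement_of_cent (fun x hx y hy => congrArg Subtype.val (hH.comm ⟨x, hx⟩ ⟨y, hy⟩))
      hN (by rw [hHi]; exact D.not_dvd_c hp hpa) (hpa.trans D.dvd_card_a)
      fun z hz hz1 _ => hH.cent_eq z hz hz1)
  have hNE : ¬ normalizer (E : Set G) ≤ E := by
    intro hN
    obtain ⟨R, hRn, hRs, hmin⟩ := exists_minimal_solvable_quotient G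
    haveI := hRn
    have hR2 : ∀ q : ℕ, q.Prime → q ∣ c → q ∣ Nat.card R → q = 2 := by
      intro q hq hqc hqR
      by_contra hq2
      haveI := Fact.mk hq
      obtain ⟨R', hR'n, hR's, hR'⟩ := exists_of_complement (complement_of_cent hEab hN
        (by rw [hEb]; exact D.not_dvd_b hnoA hq hqc hq2) (hqc.trans D.dvd_card_c)
        fun z hz hz1 hzl => hEcent hz (by
          obtain ⟨j, hj⟩ := hzl
          exact D.b_ne_c_dvd hq hqc hnoA hq2 hj hz1))
      exact hR' (hqR.trans (card_dvd_of_le (hmin R' hR'n hR's)))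
    have h1 : Nat.card R * R.relIndex H = Nat.card (H ⊔ R : Subgroup G) := by
      rw [← relIndex_sup_right, ← relIndex_bot_left R, relIndex_mul_relIndex _ _ _ bot_le le_sup_right,
        relIndex_bot_left]
    have h2' : Nat.card (H ⊓ R : Subgroup G) * R.relIndex H = Nat.card H := by
      rw [← inf_relIndex_left, ← relIndex_bot_left (H ⊓ R), relIndex_mul_relIndex _ _ _ bot_le inf_le_left,
        relIndex_bot_left]
    have h3 : Nat.card (H ⊓ R : Subgroup G) * H.relIndex R = Nat.card R := by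
      rw [← inf_relIndex_right, ← relIndex_bot_left (H ⊓ R), relIndex_mul_relIndex _ _ _ bot_le inf_le_right,
        relIndex_bot_left]
    have hjc : H.relIndex R ∣ c := by
      have h4 : Nat.card R * R.relIndex H ∣ a * c := h1 ▸ D.card_eq ▸ card_subgroup_dvd_card _
      rw [← h3, show a = Nat.card (H ⊓ R : Subgroup G) * R.relIndex H by rw [h2', hHc]] at h4
      refine Nat.dvd_of_mul_dvd_mul_left (k := Nat.card (H ⊓ R : Subgroup G) * R.relIndex H) ?_ ?_
      · rw [h2']; exact Nat.card_pos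
      · refine dvd_trans (dvd_of_eq ?_) h4
        ring
    obtain ⟨T⟩ : Nonempty (Sylow 2 R) := inferInstance
    haveI : Group.IsNilpotent (H.subgroupOf R) := by
      haveI : IsMulCommutative (H.subgroupOf R) :=
        ⟨⟨fun x y => Subtype.ext (Subtype.ext (congrArg Subtype.val (hH.comm ⟨_, x.2⟩ ⟨_, y.2⟩) :))⟩⟩
      exact Components.Fitting.isNilpotent_of_isMulCommutative _
    haveI : Group.IsSolvable R := by
      refine SolvStruct.Kegel.isSolvable _ R (T : Subgroup R) (H.subgroupOf R) rfl T.2.isNilpotent inferInstance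
        fun x => exists_mul_of_coprime ?_ x
      refine Nat.coprime_of_dvd fun q hq hq1 hq2' => T.not_dvd_index ?_
      have : q = 2 := hR2 q hq (hq1.trans hjc) (hq1.trans (index_dvd_card _))
      exact this ▸ hq2'
    exact D.hns ((Group.isSolvable_iff_subgroup_quotient R).2 ⟨inferInstance, hRs⟩)
  have htwo : ∀ X : Subgroup G, ¬ normalizer (X : Set G) ≤ X →
      2 * Nat.card X ≤ Nat.card (normalizer (X : Set G)) := by
    intro X hX
    have hidx : X.relIndex (normalizer (X : Set G)) ≠ 1 := fun h => hX (relIndex_eq_one.1 h)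
    have hpos : X.relIndex (normalizer (X : Set G)) ≠ 0 := (X.subgroupOf (normalizer (X : Set G))).index_ne_zero_of_finite
    rw [← relIndex_bot_left (normalizer (X : Set G)),
      ← relIndex_mul_relIndex _ _ _ (bot_le : (⊥ : Subgroup G) ≤ X) le_normalizer, relIndex_bot_left,
      mul_comm]
    exact Nat.mul_le_mul_left _ (by omega)
  -- the count
  have hn0 : 2 * Nat.card N₀ ≤ c := by
    have hd : Nat.card N₀ ∣ c := (D.card_cent_a hta) ▸ card_dvd_of_le hN₀K
    obtain ⟨k, hk⟩ := hd
    have hk0 : k ≠ 0 := by rintro rfl; have := D.one_lt_c; simp at hk; omega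
    have hk1 : k ≠ 1 := by
      rintro rfl
      refine (D.n0_ne_cent h2 hM hM1 hta).elim (fun h => h ?_) fun h => h hN₀K
      exact (eq_of_le_of_card_ge hN₀K (by rw [D.card_cent_a hta, hk, mul_one])).ge
    rw [hk, mul_comm]
    exact Nat.mul_le_mul_left _ (by omega)
  have hcover : (Set.univ : Set G) ⊆ (N₀ : Set G) ∪ conjSharp H ∪ conjSharp E := by
    intro x _
    by_cases hx : x = 1
    · exact Or.inl (Or.inl (hx ▸ one_mem N₀))
    rcases D.vals x hx with h | h | h
    · exact Or.inl (Or.inl (mem_n0_of_a h2 hM h))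
    · exact Or.inr ⟨hx, hEx x h⟩
    · exact Or.inl (Or.inr ⟨hx, hHx x h⟩)
  have hle : a * c ≤ Nat.card N₀ + (conjSharp H).ncard + (conjSharp E).ncard := by
    have := (Set.ncard_le_ncard hcover (Set.toFinite _)).trans
      ((Set.ncard_union_le _ _).trans (Nat.add_le_add_right (Set.ncard_union_le _ _) _))
    rwa [Set.ncard_univ, D.card_eq, ← Nat.card_coe_set_eq (N₀ : Set G)] at this
  have hA := ncard_conjSharp_mul_le H
  have hB := ncard_conjSharp_mul_le E
  rw [hHc, D.card_eq] at hA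
  rw [D.card_eq] at hB
  have hA' := htwo H hNH
  rw [hHc] at hA'
  have hB' := htwo E hNE
  have ha1 := D.one_lt_a
  have hc1 := D.one_lt_c
  have he : 0 < Nat.card E := Nat.card_pos
  -- `2|H^G| ≤ c(a-1)` and `2|E^G| < ac`
  have hA2 : 2 * (conjSharp H).ncard ≤ (a - 1) * c := by
    refine Nat.le_of_mul_le_mul_left ?_ (show 0 < a by omega)
    calc a * (2 * (conjSharp H).ncard) = (conjSharp H).ncard * (2 * a) := by ring
      _ ≤ _ := (Nat.mul_le_mul_left _ hA').trans hA
      _ = a * ((a - 1) * c) := by ring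
  have hB2 : 2 * (conjSharp E).ncard < a * c := by
    refine Nat.lt_of_mul_lt_mul_left (a := Nat.card E) ?_
    calc Nat.card E * (2 * (conjSharp E).ncard) = (conjSharp E).ncard * (2 * Nat.card E) := by ring
      _ ≤ _ := (Nat.mul_le_mul_left _ hB').trans hB
      _ < Nat.card E * (a * c) := Nat.mul_lt_mul_of_pos_right (by omega) (by positivity)
  have : (a - 1) * c + c = a * c := by rw [← Nat.succ_mul, Nat.succ_eq_add_one, Nat.sub_add_cancel ha1.le]
  omega

theorem false_of_odd : False := by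
  obtain ⟨M, hMn, hM, hM1, hMc⟩ := D.exists_two_abelian h2
  haveI := hMn
  haveI := hMc
  exact D.false_of_abelian_two h2 hM hM1

end Sz

end Cfsg.Agent.CentrelessThree
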