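import Cfsg.Agent.ClassRankThree.Partition
import Cfsg.Agent.S2202
import Cfsg.Agent.S0205
import Cfsg.Agent.Lib.Classical.GL2
import Cfsg.Agent.Lib.Classical.SmallIso
import Mathlib.FieldTheory.Finite.GaloisField

/-! Centreless groups with abelian involution centralisers. -/

set_option autoImplicit false
set_option linter.style.haveILetI false

namespace Cfsg.Agent.CentrelessThree

open Subgroup
open ClassRankThree (AbCent)

/-- The conclusion: soluble or `PSL₂` in characteristic two. -/
def Goal (G : Type*) [Group G] : Prop :=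
  Group.IsSolvable G ∨ ∃ a : ℕ, 0 < a ∧
    Nonempty (G ≃* Matrix.ProjectiveSpecialLinearGroup (Fin 2) (GaloisField 2 a))

variable {G : Type*} [Group G] [Finite G]

theorem two_dvd_card (hns : ¬ Group.IsSolvable G) : 2 ∣ Nat.card G := by
  by_contra h
  exact hns (Cfsg.Agent.S0205.result (Nat.not_even_iff_odd.1 fun he => h he.two_dvd))

theorem isSolvable_of_normal_odd_index (N : Subgroup G) [N.Normal] [Group.IsSolvable N]
    (h : ¬ 2 ∣ N.index) : Group.IsSolvable G := by
  haveI : Group.IsSolvable (G ⧸ N) := Cfsg.Agent.S0205.result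
    (Nat.not_even_iff_odd.1 fun he => h (N.index_eq_card ▸ he.two_dvd))
  exact (Group.isSolvable_iff_subgroup_quotient N).2 ⟨inferInstance, inferInstance⟩

/-- A centreless group with abelian involution centralisers. -/
theorem goal_of_abCent (hZ : center G = ⊥) (h : ∀ t : G, orderOf t = 2 → AbCent t) : Goal G := by
  by_cases hs : Group.IsSolvable G
  · exact Or.inl hs
  haveI : Fact (Nat.Prime 2) := ⟨Nat.prime_two⟩
  have h2 := two_dvd_card hs
  obtain ⟨S⟩ : Nonempty (Sylow 2 G) := inferInstance
  rcases Cfsg.Agent.S2202.result (even_iff_two_dvd.2 h2)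
    (fun t ht => ⟨⟨fun a b => Subtype.ext (h t ht a a.2 b b.2).eq⟩⟩) with
    hc | hn | ⟨F, iF, iT, A, iA, iAF, hchar, hodd, ⟨e⟩⟩
  · -- cyclic Sylow subgroup: a normal two-complement
    refine absurd ?_ hs
    have hNC := IsCyclic.normalizer_le_centralizer ((Nat.minFac_eq_two_iff _).2 h2) (hc S)
    have hcompl := MonoidHom.ker_transferSylow_isComplement' S hNC
    haveI : Group.IsSolvable (MonoidHom.transferSylow S hNC).ker := Cfsg.Agent.S0205.result
      (Nat.not_even_iff_odd.1 fun he => S.not_dvd_index (by rw [hcompl.index_eq_card]; exact he.two_dvd))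
    haveI : Group.IsSolvable (S : Subgroup G) := by
      haveI := S.2.isNilpotent
      infer_instance
    exact Group.isSolvable_of_ker_le_range (MonoidHom.transferSylow S hNC).ker.subtype
      (MonoidHom.transferSylow S hNC) (Subgroup.range_subtype _).ge
  · haveI := hn S
    haveI := S.2.isNilpotent
    exact Or.inl (isSolvable_of_normal_odd_index (S : Subgroup G) S.not_dvd_index)
  classical
  have hA : ∀ a : A, a = 1 := by
    intro a
    have hz : e.symm (1, a) ∈ center G := mem_center_iff.2 fun g => e.injective (by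
      rw [map_mul, map_mul, MulEquiv.apply_symm_apply]
      exact Prod.ext (by simp) (mul_comm _ _))
    rw [hZ, mem_bot] at hz
    have := congrArg e hz
    rw [MulEquiv.apply_symm_apply, map_one] at this
    exact congrArg Prod.snd this
  haveI : Unique A := ⟨⟨1⟩, hA⟩
  have hbot : center (Matrix.SpecialLinearGroup (Fin 2) F) = ⊥ := by
    rw [eq_bot_iff]
    intro M hM
    obtain ⟨r, hr, hrM⟩ := Matrix.SpecialLinearGroup.mem_center_iff.mp hM
    rw [Fintype.card_fin] at hr
    have h2 : (r - 1) ^ 2 = 0 := by rw [sub_pow_char, one_pow, hr, sub_self]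
    rw [sub_eq_zero.mp (eq_zero_of_pow_eq_zero h2), map_one] at hrM
    exact mem_bot.mpr (Subtype.ext hrM.symm)
  let e1 : G ≃* Matrix.SpecialLinearGroup (Fin 2) F := e.trans MulEquiv.prodUnique
  obtain ⟨n, -, hn⟩ := FiniteField.card F 2
  haveI := Fintype.ofFinite (GaloisField 2 n)
  let φ : F ≃+* GaloisField 2 n := FiniteField.ringEquivOfCardEq (by
    rw [hn, ← Nat.card_eq_fintype_card, GaloisField.card 2 n n.ne_zero])
  let e2 : G ≃* Matrix.ProjectiveSpecialLinearGroup (Fin 2) F :=
    e1.trans ((QuotientGroup.quotientMulEquivOfEq hbot).trans QuotientGroup.quotientBot).symm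
  exact Or.inr ⟨n, n.pos, ⟨e2.trans (Classical.SmallIso.pslCongr φ)⟩⟩

end Cfsg.Agent.CentrelessThree
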