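import Cfsg.Agent.CentrelessThree.Basic
import Cfsg.Agent.CentrelessThree.Psl
import Cfsg.Agent.S4160
import Cfsg.Agent.Solvable.Thompson

/-! Three class sizes with the smaller of the dividing pair odd: first facts. -/

set_option autoImplicit false
set_option linter.style.haveILetI false

namespace Cfsg.Agent.CentrelessThree

open Subgroup
open GroupStructure3.ClassGraph (cs cs_conj cs_eq_one_iff cs_pow_dvd exists_conj_le)
open GStructB.TwoSizes (cent IsL mem_cent self_mem_cent)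
open ClassRankThree (exists_center_sylow ne_one_of_orderOf_prime)

universe u

variable {G : Type u} [Group G] [Finite G]

/-- A normal subgroup with soluble quotient inside every other one. -/
theorem exists_minimal_solvable_quotient (G : Type u) [Group G] [Finite G] :
    ∃ N : Subgroup G, ∃ _ : N.Normal, Group.IsSolvable (G ⧸ N) ∧
      ∀ M : Subgroup G, ∀ _ : M.Normal, Group.IsSolvable (G ⧸ M) → N ≤ M := by
  have htop : Group.IsSolvable (G ⧸ (⊤ : Subgroup G)) := by
    haveI := QuotientGroup.subsingleton_quotient_top (G := G)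
    exact Group.isSolvable_of_comm fun a b => Subsingleton.elim _ _
  obtain ⟨N, -, hN⟩ := (Set.toFinite {N : Subgroup G | ∃ _ : N.Normal, Group.IsSolvable (G ⧸ N)}).exists_le_minimal
    (a := ⊤) ⟨inferInstance, htop⟩
  obtain ⟨hNn, hNs⟩ := hN.prop
  haveI := hNn
  refine ⟨N, hNn, hNs, fun M hMn hMs => ?_⟩
  haveI := hMn
  refine le_trans (hN.le_of_le ⟨inferInstance, ?_⟩ (inf_le_left : N ⊓ M ≤ N)) inf_le_right
  haveI := hNs
  haveI := hMs
  let f : G ⧸ (N ⊓ M) →* (G ⧸ N) × (G ⧸ M) :=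
    QuotientGroup.lift (N ⊓ M) ((QuotientGroup.mk' N).prod (QuotientGroup.mk' M)) (fun x hx =>
      Prod.ext ((QuotientGroup.eq_one_iff x).2 hx.1) ((QuotientGroup.eq_one_iff x).2 hx.2))
  refine Group.isSolvable_of_isSolvable_injective (f := f) ((injective_iff_map_eq_one f).2 ?_)
  intro q hq
  obtain ⟨x, rfl⟩ := QuotientGroup.mk'_surjective (N ⊓ M) q
  refine (QuotientGroup.eq_one_iff x).2 ⟨?_, ?_⟩
  · exact (QuotientGroup.eq_one_iff x).1 (congrArg Prod.fst hq)
  · exact (QuotientGroup.eq_one_iff x).1 (congrArg Prod.snd hq)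

/-- A normal complement has soluble quotient and order prime to `p`. -/
theorem exists_of_complement {p : ℕ} [Fact p.Prime] (h : Cfsg.HasNormalPComplement p G) :
    ∃ M : Subgroup G, ∃ _ : M.Normal, Group.IsSolvable (G ⧸ M) ∧ ¬ p ∣ Nat.card M := by
  obtain ⟨P, M, hM, hc⟩ := h
  haveI := hM
  refine ⟨M, hM, ?_, fun hd => P.not_dvd_index (by rwa [hc.index_eq_card])⟩
  haveI : Group.IsNilpotent (G ⧸ M) := by
    refine (IsPGroup.of_card (p := p) (n := (Nat.card G).factorization p) ?_).isNilpotent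
    rw [← index_eq_card, hc.symm.index_eq_card, P.card_eq_multiplicity]
  infer_instance

/-- A self-centralising normaliser gives a normal complement. -/
theorem complement_of_normalizer_le {p : ℕ} [Fact p.Prime] (P : Sylow p G)
    (h : normalizer ((P : Subgroup G) : Set G) ≤ centralizer ((P : Subgroup G) : Set G)) :
    Cfsg.HasNormalPComplement p G :=
  ⟨P, _, inferInstance, MonoidHom.ker_transferSylow_isComplement' P h⟩

namespace Sz

variable {a b c : ℕ} (D : Sz G a b c)
include D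

/-- An element order divides `a` or `c`. -/
theorem order_cases (g : G) : orderOf g ∣ a ∨ orderOf g ∣ c := by
  by_cases hg : g = 1
  · rw [hg, orderOf_one]; exact Or.inl (one_dvd _)
  rcases D.vals g hg with h | h | h
  · exact Or.inr (D.card_cent_a h ▸ Subgroup.orderOf_dvd_natCard _ (self_mem_cent g))
  · exact Or.inr ((Subgroup.orderOf_dvd_natCard _ (self_mem_cent g)).trans (D.card_cent_b_dvd h))
  · exact Or.inl (D.orderOf_dvd_a_of_c h (Commute.refl g))

theorem not_dvd_c {p : ℕ} (hp : p.Prime) (hpa : p ∣ a) : ¬ p ∣ c :=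
  fun h => hp.not_dvd_one (D.cop ▸ Nat.dvd_gcd hpa h)

/-- Prime divisors of `a` and `c` occur in no common element order. -/
theorem not_mixed {p q : ℕ} (hp : p.Prime) (hpa : p ∣ a) (hq : q.Prime) (hqc : q ∣ c) {g : G}
    (h1 : p ∣ orderOf g) (h2 : q ∣ orderOf g) : False := by
  rcases D.order_cases g with h | h
  · exact D.not_dvd_c hq (h2.trans h) hqc
  · exact D.not_dvd_c hp hpa (h1.trans h)

theorem cs_ne_c {q : ℕ} (hq : q.Prime) (hqc : q ∣ c) {g : G} (h : q ∣ orderOf g) : cs g ≠ c :=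
  fun hc => D.not_dvd_c hq (h.trans (D.orderOf_dvd_a_of_c hc (Commute.refl g))) hqc

theorem eq_one_of_fixed {p : ℕ} (hp : p.Prime) (hpa : p ∣ a) {h x : G} (hh : orderOf h = p)
    (hx : orderOf x ∣ c) (hc : Commute x h) : x = 1 := by
  have hs : cs h = c := D.cs_c_of_order (ne_one_of_orderOf_prime hp hh) fun h' =>
    hp.ne_one (Nat.eq_one_of_dvd_coprimes (hh ▸ h') dvd_rfl hpa)
  exact orderOf_eq_one_iff.1 (Nat.eq_one_of_dvd_coprimes D.cop (D.orderOf_dvd_a_of_c hs hc) hx)

/-- A subgroup of order dividing `c` normalised by an element of prime order dividing `a`. -/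
theorem nilpotent_of_normalized {p : ℕ} (hp : p.Prime) (hpa : p ∣ a) {h : G} (hh : orderOf h = p)
    (N : Subgroup G) (hN : h ∈ normalizer (N : Set G)) (hc : Nat.card N ∣ c) : Group.IsNilpotent N := by
  refine Solvable.Thompson.isNilpotent_of_fixedPointFree (N.normalizerMonoidHom ⟨h, hN⟩) hp (fun x hx => ?_) ?_
  · have e : h * (x : G) * h⁻¹ = x := congrArg Subtype.val hx
    refine Subtype.ext (D.eq_one_of_fixed hp hpa hh ((Subgroup.orderOf_dvd_natCard _ x.2).trans hc) ?_)
    exact ((mul_inv_eq_iff_eq_mul.1 e)).symm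
  · rw [← map_pow, show (⟨h, hN⟩ : normalizer (N : Set G)) ^ p = 1 from Subtype.ext (by
      rw [SubmonoidClass.coe_pow, ← hh, pow_orderOf_eq_one]; rfl), map_one]

theorem exists_prime_a : ∃ p : ℕ, p.Prime ∧ p ∣ a ∧ ∃ h : G, orderOf h = p := by
  obtain ⟨p, hp, hpa⟩ := Nat.exists_prime_and_dvd D.one_lt_a.ne'
  haveI := Fact.mk hp
  exact ⟨p, hp, hpa, exists_prime_orderOf_dvd_card' p (hpa.trans D.dvd_card_a)⟩

/-- A normal subgroup of order dividing `c` is soluble. -/
theorem nilpotent_of_normal (N : Subgroup G) [N.Normal] (hc : Nat.card N ∣ c) : Group.IsNilpotent N := by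
  obtain ⟨p, hp, hpa, h, hh⟩ := D.exists_prime_a
  exact D.nilpotent_of_normalized hp hpa hh N (by rw [normalizer_eq_top]; exact mem_top h) hc

/-- Not every prime of `a` has a soluble quotient avoiding it. -/
theorem false_of_quotients (h : ∀ p : ℕ, p.Prime → p ∣ a →
    ∃ M : Subgroup G, ∃ _ : M.Normal, Group.IsSolvable (G ⧸ M) ∧ ¬ p ∣ Nat.card M) : False := by
  obtain ⟨N, hNn, hNs, hmin⟩ := exists_minimal_solvable_quotient G
  haveI := hNn
  have hcop : (Nat.card N).Coprime a := Nat.coprime_of_dvd fun p hp h1 h2 => by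
    obtain ⟨M, hMn, hMs, hM⟩ := h p hp h2
    exact hM (h1.trans (card_dvd_of_le (hmin M hMn hMs)))
  have hc : Nat.card N ∣ c := hcop.dvd_of_dvd_mul_left (D.card_eq ▸ card_subgroup_dvd_card N)
  haveI := D.nilpotent_of_normal N hc
  exact D.hns ((Group.isSolvable_iff_subgroup_quotient N).2 ⟨inferInstance, hNs⟩)

variable (h2 : ¬ 2 ∣ a)
include h2

theorem two_dvd_c : 2 ∣ c :=
  (Nat.prime_two.dvd_mul.1 (D.card_eq ▸ two_dvd_card D.hns)).resolve_left h2

theorem two_dvd_b : 2 ∣ b := by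
  by_contra hb
  refine D.false_of_quotients fun p hp hpa => ?_
  haveI := Fact.mk hp
  haveI := Fact.mk Nat.prime_two
  have hp2 : p ≠ 2 := fun e => h2 (e ▸ hpa)
  obtain ⟨y, -, hy⟩ := D.ea
  obtain ⟨w, -, hw⟩ := D.ec
  have hno : ∀ x : G, ¬ p * 2 ∣ cs x := by
    intro x hx
    by_cases hx1 : x = 1
    · rw [hx1, cs_eq_one_iff.2 (one_mem _)] at hx
      exact hp.not_dvd_one ((dvd_mul_right p 2).trans hx)
    rcases D.vals x hx1 with h | h | h <;> rw [h] at hx
    · exact h2 ((dvd_mul_left 2 p).trans hx)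
    · exact hb ((dvd_mul_left 2 p).trans hx)
    · exact D.not_dvd_c hp hpa ((dvd_mul_right p 2).trans hx)
  rcases Cfsg.Agent.S4160.result p 2 hp Nat.prime_two hp2 ⟨y, show p ∣ cs y from hy.symm ▸ hpa⟩
    ⟨w, show 2 ∣ cs w from hw.symm ▸ D.two_dvd_c h2⟩ hno with h | h
  · exact exists_of_complement h
  · obtain ⟨M, hMn, hMs, hM⟩ := exists_of_complement h
    haveI : Group.IsSolvable M := Cfsg.Agent.S0205.result
      (Nat.not_even_iff_odd.1 fun he => hM he.two_dvd)
    exact absurd ((Group.isSolvable_iff_subgroup_quotient M).2 ⟨inferInstance, hMs⟩) D.hns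

theorem cs_a_of_sylow (S : Sylow 2 G) {g : G} (hg : g ≠ 1) (h : (S : Subgroup G) ≤ cent g) : cs g = a := by
  haveI := Fact.mk Nat.prime_two
  have hn : ¬ 2 ∣ cs g := fun hd => S.not_dvd_index (hd.trans (index_dvd_of_le h))
  rcases D.vals g hg with e | e | e
  · exact e
  · exact absurd (e.symm ▸ D.two_dvd_b h2) hn
  · exact absurd (e.symm ▸ D.two_dvd_c h2) hn

omit D in
theorem exists_sylow_le {g : G} (hg : cs g = a) : ∃ S : Sylow 2 G, (S : Subgroup G) ≤ cent g := by
  haveI := Fact.mk Nat.prime_two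
  obtain ⟨T⟩ : Nonempty (Sylow 2 G) := inferInstance
  obtain ⟨d, hd⟩ := exists_conj_le (A := cent g) (show ¬ 2 ∣ cs g by rwa [hg]) T
  refine ⟨d • T, fun x hx => ?_⟩
  rw [Sylow.coe_subgroup_smul, GStructB.PElements.mem_conj_smul] at hx
  have := hd _ hx
  rwa [show d * (d⁻¹ * x * d) * d⁻¹ = x by group] at this

/-- An involution of `M` centralising the Sylow subgroup `S`, of size `a`. -/
theorem exists_involution_sylow (S : Sylow 2 G) {M : Subgroup G} [M.Normal] (hM : IsPGroup 2 M)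
    (hM1 : M ≠ ⊥) : ∃ i ∈ M, orderOf i = 2 ∧ (S : Subgroup G) ≤ cent i ∧ cs i = a := by
  haveI := Fact.mk Nat.prime_two
  have hMS : M ≤ (S : Subgroup G) := hM.le_sylow_of_normal S
  haveI := S.2.isNilpotent
  have hne : M.subgroupOf (S : Subgroup G) ≠ ⊥ := fun h => hM1
    ((subgroupOf_eq_bot.1 h).eq_bot_of_le hMS)
  set I := M.subgroupOf (S : Subgroup G) ⊓ center (S : Subgroup G)
  have hI : I ≠ ⊥ := Cores.inf_center_ne_bot hne
  have hIp : IsPGroup 2 I := S.2.to_subgroup I
  haveI : Nontrivial I := (nontrivial_iff_ne_bot _).2 hI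
  obtain ⟨k, hk0, hk⟩ := hIp.nontrivial_iff_card.1 inferInstance
  obtain ⟨i, hi⟩ := exists_prime_orderOf_dvd_card' (G := I) 2 (hk ▸ dvd_pow_self 2 hk0.ne')
  rw [← Subgroup.orderOf_coe, ← Subgroup.orderOf_coe] at hi
  have hS : (S : Subgroup G) ≤ cent ((i : (S : Subgroup G)) : G) := fun s hs => mem_cent.2
    (congrArg Subtype.val (mem_center_iff.1 i.2.2 ⟨s, hs⟩))
  exact ⟨_, i.2.1, hi, hS, D.cs_a_of_sylow h2 S (ne_one_of_orderOf_prime Nat.prime_two hi) hS⟩

theorem exists_involution (S : Sylow 2 G) :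
    ∃ i ∈ (S : Subgroup G), orderOf i = 2 ∧ (S : Subgroup G) ≤ cent i ∧ cs i = a := by
  haveI := Fact.mk Nat.prime_two
  obtain ⟨z, hzS, hz1, hSz, -⟩ := exists_center_sylow (two_dvd_card D.hns) S
  obtain ⟨k, hk⟩ := GStructB.PElements.exists_orderOf_eq S.2 hzS
  have hk0 : k ≠ 0 := fun h => hz1 (orderOf_eq_one_iff.1 (by rw [hk, h, pow_zero]))
  have ho : orderOf (z ^ 2 ^ (k - 1)) = 2 := by
    have : 2 ^ k = 2 ^ (k - 1) * 2 := by rw [← pow_succ, Nat.sub_add_cancel (Nat.pos_of_ne_zero hk0)]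
    rw [orderOf_pow' z (pow_ne_zero _ two_ne_zero), hk, this, Nat.gcd_eq_right (dvd_mul_right _ _),
      Nat.mul_div_cancel_left _ (pow_pos two_pos _)]
  have hS := hSz.trans (GStructB.TwoSizes.cent_le_pow z (2 ^ (k - 1)))
  exact ⟨_, pow_mem hzS _, ho, hS, D.cs_a_of_sylow h2 S (ne_one_of_orderOf_prime Nat.prime_two ho) hS⟩

end Sz

end Cfsg.Agent.CentrelessThree
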