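import Cfsg.Agent.ClassRankThree.Chars
import Cfsg.Agent.GroupStructure3.ClassGraph.Basic
import Cfsg.Agent.Lib.ZStar.Main
import Cfsg.Agent.LocalFlavell.FittingTimes.Core
import Cfsg.Agent.S0205

/-! An involution whose class is a regular orbit of an abelian Hall subgroup with trivial fusion
has soluble normal closure. -/

set_option autoImplicit false
set_option linter.style.haveILetI false

namespace Cfsg.Agent.CentrelessThree

open Subgroup
open GroupStructure3.ClassGraph (exists_mul_of_coprime)
open GStructB.TwoSizes (cent mem_cent)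
open ClassRankThree (CC)

universe u

/-- A maximal soluble normal subgroup contains every soluble normal subgroup. -/
theorem exists_radical (G : Type u) [Group G] [Finite G] :
    ∃ R : Subgroup G, R.Normal ∧ Group.IsSolvable R ∧
      ∀ N : Subgroup G, N.Normal → Group.IsSolvable N → N ≤ R := by
  obtain ⟨R, -, hR⟩ := (Set.toFinite {N : Subgroup G | N.Normal ∧ Group.IsSolvable N}).exists_le_maximal
    (show (⊥ : Subgroup G) ∈ {N : Subgroup G | N.Normal ∧ Group.IsSolvable N} from
      ⟨inferInstance, inferInstance⟩)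
  refine ⟨R, hR.prop.1, hR.prop.2, fun N hN hNs => ?_⟩
  haveI := hR.prop.1
  haveI := hN
  have hsup := LocalFlavell.FittingTimes.isSolvable_sup (N := R) hNs hR.prop.2
    (by rw [normalizer_eq_top]; exact le_top)
  exact le_sup_right.trans (hR.le_of_ge ⟨inferInstance, hsup⟩ le_sup_left)

theorem isSolvable_normalClosure_of_cc : ∀ (n : ℕ) (G : Type u) [Group G] [Finite G]
    (H : Subgroup G) (t : G), Nat.card G = n → CC H → orderOf t = 2 →
    (cent t).index = Nat.card H → (Nat.card (cent t)).Coprime (Nat.card H) →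
    Group.IsSolvable (normalClosure ({t} : Set G)) := by
  intro n
  induction n using Nat.strong_induction_on with
  | _ n ih =>
  intro G _ _ H t hn hH ht hKi hcop
  classical
  haveI := Fintype.ofFinite G
  by_cases hiso : Cfsg.IsIsolatedInvolution t
  · -- isolated: central modulo the odd core
    let f := QuotientGroup.mk' (Cfsg.oddCore G)
    set y := f t with hy
    have hc : ∀ q, Commute y q := by
      intro q
      obtain ⟨g, rfl⟩ := QuotientGroup.mk'_surjective (Cfsg.oddCore G) q
      have h1 : f (t * g * t⁻¹ * g⁻¹) = 1 :=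
        (QuotientGroup.eq_one_iff _).2 (ZStar.Main.commutator_mem_oddCore hiso g)
      rw [map_mul, map_mul, map_mul, map_inv, map_inv, mul_inv_eq_one, mul_inv_eq_iff_eq_mul] at h1
      exact h1
    have hmap : (normalClosure ({t} : Set G)).map f ≤ zpowers y := by
      rw [map_le_iff_le_comap]
      have hn : (zpowers y).Normal := ⟨fun q hq g => by
        obtain ⟨i, rfl⟩ := mem_zpowers_iff.1 hq
        rw [((hc g).symm.zpow_right i).eq, mul_inv_cancel_right]
        exact zpow_mem (mem_zpowers y) i⟩
      haveI := hn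
      exact normalClosure_le_normal (Set.singleton_subset_iff.2 (mem_zpowers y))
    haveI : Group.IsSolvable (Cfsg.oddCore G) :=
      Cfsg.Agent.S0205.result InvChar.Core.odd_card_oddCore
    set M := normalClosure ({t} : Set G) with hM
    let emb : (Cfsg.oddCore G).subgroupOf M →* Cfsg.oddCore G :=
      { toFun := fun x => ⟨((x : M) : G), x.2⟩, map_one' := rfl, map_mul' := fun _ _ => rfl }
    haveI : Group.IsSolvable ((Cfsg.oddCore G).subgroupOf M) :=
      Group.isSolvable_of_isSolvable_injective (f := emb)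
        (fun a b e => Subtype.ext (Subtype.ext (Subtype.ext_iff.1 e :)))
    let g : M →* zpowers y :=
      { toFun := fun x => ⟨f x, hmap (mem_map_of_mem f x.2)⟩
        map_one' := Subtype.ext (map_one f)
        map_mul' := fun a b => Subtype.ext (map_mul f (a : G) (b : G)) }
    refine Group.isSolvable_of_ker_le_range ((Cfsg.oddCore G).subgroupOf M).subtype g ?_
    intro x hx
    rw [Subgroup.range_subtype, mem_subgroupOf]
    exact (QuotientGroup.eq_one_iff (x : G)).1 (congrArg Subtype.val (MonoidHom.mem_ker.1 hx))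
  -- otherwise a proper overgroup of the centraliser contains the class
  obtain ⟨N, hN, hNt, g₀, hg₀⟩ : ∃ N : Subgroup G, N.Normal ∧ (∀ x : G, x * t * x⁻¹ * t⁻¹ ∈ N) ∧
      ∃ g : G, ∀ n ∈ N, ∀ k ∈ cent t, g ≠ n * k := by
    by_contra hno
    push Not at hno
    exact hiso (ClassRankThree.isolated_of_generated (K := cent t) hKi hcop hH ht rfl hno)
  haveI := hN
  set X := N ⊔ cent t with hX
  have hNX : N ≤ X := le_sup_left
  have hKX : cent t ≤ X := le_sup_right
  have htX : t ∈ X := hKX (GStructB.TwoSizes.self_mem_cent t)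
  have hXlt : Nat.card X < n := by
    rw [← hn]
    refine lt_of_le_of_ne (card_le_card_group X) fun e => ?_
    have : g₀ ∈ X := by rw [eq_top_of_card_eq X e]; exact mem_top _
    obtain ⟨u, hu, k, hk, e'⟩ := mem_sup_of_normal_left.1 this
    exact hg₀ u hu k hk e'.symm
  -- the Hall subgroup meets the overgroup in a Hall subgroup
  have hHidx : H.index = Nat.card (cent t) := by
    refine Nat.eq_of_mul_eq_mul_left (Nat.card_pos (α := H)) ?_
    rw [card_mul_index, ← hKi, mul_comm, card_mul_index]
  have hcover : ∀ g : G, ∃ u ∈ H, ∃ v ∈ cent t, g = u * v := fun g => by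
    obtain ⟨u, hu, v, hv, e⟩ := exists_mul_of_coprime (A := cent t) (B := H)
      (by rw [hKi, hHidx]; exact hcop.symm) g
    exact ⟨u, hu, v, hv, e⟩
  have hdisj : H ⊓ cent t = ⊥ := ((disjoint_of_coprime_natCard hcop).eq_bot).symm ▸ inf_comm H (cent t)
  set H₁ := H.subgroupOf X
  let x₁ : X := ⟨t, htX⟩
  have hKeq : cent x₁ = (cent t).subgroupOf X := by
    ext k
    rw [mem_subgroupOf, mem_cent, mem_cent]
    exact ⟨fun h => h.map X.subtype, fun h => Subtype.ext h.eq⟩
  have hKcard : Nat.card (cent x₁) = Nat.card (cent t) := by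
    rw [hKeq]; exact Nat.card_congr (subgroupOfEquivOfLe hKX).toEquiv
  have hprod : Nat.card H₁ * Nat.card (cent t) = Nat.card X := by
    rw [← Nat.card_prod]
    refine Nat.card_congr (Equiv.ofBijective
      (fun p : H₁ × cent t => (⟨((p.1 : X) : G) * p.2, X.mul_mem (p.1 : X).2 (hKX p.2.2)⟩ : X)) ⟨?_, ?_⟩)
    · rintro ⟨u, v⟩ ⟨u', v'⟩ e
      have e' : ((u : X) : G) * v = ((u' : X) : G) * v' := congrArg Subtype.val e
      have h1 : ((u' : X) : G)⁻¹ * (u : X) ∈ H ⊓ cent t := by
        refine ⟨H.mul_mem (H.inv_mem u'.2) u.2, ?_⟩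
        rw [show ((u' : X) : G)⁻¹ * (u : X) = (v' : G) * (v : G)⁻¹ by
          rw [eq_mul_inv_iff_mul_eq, mul_assoc, e', inv_mul_cancel_left]]
        exact (cent t).mul_mem v'.2 ((cent t).inv_mem v.2)
      rw [hdisj, mem_bot, inv_mul_eq_one] at h1
      have hu : u = u' := Subtype.ext (Subtype.ext h1.symm)
      subst hu
      exact Prod.ext rfl (Subtype.ext (mul_left_cancel e'))
    · intro x
      obtain ⟨u, hu, v, hv, e⟩ := hcover (x : G)
      have huX : u ∈ X := by
        rw [show u = (x : G) * v⁻¹ by rw [e, mul_inv_cancel_right]]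
        exact X.mul_mem x.2 (X.inv_mem (hKX hv))
      exact ⟨⟨⟨⟨u, huX⟩, hu⟩, ⟨v, hv⟩⟩, Subtype.ext e.symm⟩
  have hH₁dvd : Nat.card H₁ ∣ Nat.card H :=
    Subgroup.card_dvd_of_injective
      ({ toFun := fun z => ⟨((z : X) : G), z.2⟩, map_one' := rfl, map_mul' := fun _ _ => rfl } : H₁ →* H)
      (fun a b e => Subtype.ext (Subtype.ext (Subtype.ext_iff.1 e :)))
  have hCC : CC H₁ := by
    refine ⟨fun a b => ?_, fun h hh hh1 => ?_⟩
    · have e := hH.comm ⟨((a : X) : G), a.2⟩ ⟨((b : X) : G), b.2⟩
      exact Subtype.ext (Subtype.ext (congrArg (fun z : H => (z : G)) e :))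
    have e := hH.cent_eq h hh (fun e => hh1 (Subtype.ext e))
    ext k
    rw [mem_cent, mem_subgroupOf, ← e, mem_cent]
    exact ⟨fun hk => hk.map X.subtype, fun hk => Subtype.ext hk.eq⟩
  have hsol : Group.IsSolvable (normalClosure ({x₁} : Set X)) := by
    refine ih _ hXlt X H₁ x₁ rfl hCC (by rw [← Subgroup.orderOf_coe]; exact ht) ?_
      (by rw [hKcard]; exact hcop.coprime_dvd_right hH₁dvd)
    refine Nat.eq_of_mul_eq_mul_left (Nat.card_pos (α := cent x₁)) ?_
    rw [card_mul_index, hKcard, mul_comm, hprod]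
  -- the class generates a subgroup of the overgroup in which it has soluble closure
  set M := normalClosure ({t} : Set G) with hM
  have hMX : M ≤ X := by
    rw [hM, normalClosure, closure_le]
    intro y hy
    obtain ⟨t', ht', hty⟩ := Group.mem_conjugatesOfSet_iff.1 hy
    obtain ⟨c, rfl⟩ := isConj_iff.1 hty
    rw [Set.mem_singleton_iff.1 ht', SetLike.mem_coe,
      show c * t * c⁻¹ = (c * t * c⁻¹ * t⁻¹) * t by group]
    exact mul_mem (hNX (hNt c)) htX
  have htM : t ∈ M := subset_normalClosure rfl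
  set P := (normalClosure ({x₁} : Set X)).map X.subtype with hP
  have hPM : P ≤ M := by
    rw [hP, map_le_iff_le_comap]
    haveI : (M.comap X.subtype).Normal := Normal.comap inferInstance _
    exact normalClosure_le_normal (Set.singleton_subset_iff.2 htM)
  let P₁ := P.subgroupOf M
  have hP₁n : P₁.Normal := by
    refine ⟨fun z hz m => mem_subgroupOf.2 ?_⟩
    obtain ⟨q, hq, e⟩ := mem_subgroupOf.1 hz
    refine ⟨⟨(m : G), hMX m.2⟩ * q * ⟨(m : G), hMX m.2⟩⁻¹, normalClosure_normal.conj_mem q hq _, ?_⟩
    show (m : G) * (q : G) * (m : G)⁻¹ = ((m * z * m⁻¹ : M) : G)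
    rw [show (q : G) = (z : G) from e]
    rfl
  haveI hPs : Group.IsSolvable P := by
    haveI := hsol
    exact Group.isSolvable_of_surjective (f := (X.subtype.subgroupMap (normalClosure ({x₁} : Set X))))
      (X.subtype.subgroupMap_surjective _)
  have hP₁s : Group.IsSolvable P₁ :=
    Group.isSolvable_of_isSolvable_injective (f := (subgroupOfEquivOfLe hPM).toMonoidHom)
      (subgroupOfEquivOfLe hPM).injective
  obtain ⟨R, hRn, hRs, hRmax⟩ := exists_radical M
  haveI := hRs
  -- conjugation by any element preserves the radical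
  have hchar : ∀ c : G, ∀ x : M, x ∈ R →
      (⟨c * x * c⁻¹, (inferInstance : M.Normal).conj_mem x x.2 c⟩ : M) ∈ R := by
    intro c x hx
    let φ : M ≃* M :=
      { toFun := fun x => ⟨c * x * c⁻¹, (inferInstance : M.Normal).conj_mem x x.2 c⟩
        invFun := fun x => ⟨c⁻¹ * x * c, by simpa using (inferInstance : M.Normal).conj_mem x x.2 c⁻¹⟩
        left_inv := fun x => Subtype.ext (by simp [mul_assoc])
        right_inv := fun x => Subtype.ext (by simp [mul_assoc])
        map_mul' := fun x y => Subtype.ext (by simp [mul_assoc]) }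
    refine hRmax (R.map φ.toMonoidHom) (hRn.map _ φ.surjective) ?_ (mem_map_of_mem φ.toMonoidHom hx)
    exact Group.isSolvable_of_surjective (f := φ.toMonoidHom.subgroupMap R)
      (φ.toMonoidHom.subgroupMap_surjective R)
  have htR : (⟨t, htM⟩ : M) ∈ R := hRmax P₁ hP₁n hP₁s
    (mem_subgroupOf.2 (mem_map_of_mem X.subtype (subset_normalClosure (Set.mem_singleton x₁))))
  have hall : M ≤ R.map M.subtype := by
    haveI : (R.map M.subtype).Normal := ⟨fun y hy c => by
      obtain ⟨x, hx, rfl⟩ := hy
      exact ⟨_, hchar c x hx, rfl⟩⟩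
    exact normalClosure_le_normal (Set.singleton_subset_iff.2 ⟨_, htR, rfl⟩)
  refine Group.isSolvable_of_surjective (f := (R.subtype : R →* M)) fun x => ?_
  obtain ⟨y, hy, e⟩ := hall x.2
  exact ⟨⟨y, hy⟩, Subtype.ext e⟩

end Cfsg.Agent.CentrelessThree
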