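import Cfsg.Agent.CentrelessThree.Beta

/-! Centreless groups with at most three nontrivial class sizes. -/

set_option autoImplicit false
set_option linter.style.haveILetI false

namespace Cfsg.Agent.CentrelessThree

open Subgroup
open GroupStructure3.ClassGraph (cs cs_eq_one_iff)
open GStructB.TwoSizes (cent)
open ClassRankThree (cent_eq_of_cs_eq exists_center_sylow)

universe u

variable {G : Type u} [Group G] [Finite G]

theorem goal_of_le_three (hZ : center G = ⊥)
    (h : Nat.card {n : ℕ | 1 < n ∧ ∃ x : G, (centralizer ({x} : Set G)).index = n} ≤ 3) : Goal G := by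
  classical
  by_cases hs : Group.IsSolvable G
  · exact Or.inl hs
  have hnc : ∀ g : G, g ≠ 1 → g ∉ center G := fun g hg => by rw [hZ, mem_bot]; exact hg
  by_cases hcon : ∀ g k : G, g ≠ 1 → k ≠ 1 → cent g ≤ cent k → cent g = cent k
  · exact goal_of_abCent hZ fun t ht => ClassRankThree.abCent_involution (Q := {g : G | g ≠ 1}) (fun h => h rfl)
      (fun _ _ _ _ hg => hg) (fun g hg k hk hle => hcon g k hg hk hle)
      (ClassRankThree.ne_one_of_orderOf_prime Nat.prime_two ht) ht
  push Not at hcon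
  obtain ⟨x, y, hx, hy, hle, hne⟩ := hcon
  set S := {n : ℕ | 1 < n ∧ ∃ x : G, (centralizer ({x} : Set G)).index = n} with hS
  have hmem : ∀ g : G, g ≠ 1 → cs g ∈ S := fun g hg => by
    refine ⟨?_, g, rfl⟩
    have := GroupStructure3.ClassGraph.cs_ne_zero g
    have : cs g ≠ 1 := fun h => hnc g hg (cs_eq_one_iff.1 h)
    omega
  have hab : cs y ≠ cs x := fun e => hne (cent_eq_of_cs_eq hle e.symm)
  have hd : cs y ∣ cs x := index_dvd_of_le hle
  obtain ⟨w, hw, hwy, hwx⟩ : ∃ w : G, w ≠ 1 ∧ cs w ≠ cs y ∧ cs w ≠ cs x := by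
    by_contra hno
    push Not at hno
    obtain ⟨p, hp, hpy⟩ := Nat.exists_prime_and_dvd (n := cs y) (hmem y hy).1.ne'
    haveI := Fact.mk hp
    obtain ⟨P⟩ : Nonempty (Sylow p G) := inferInstance
    obtain ⟨z, -, hz1, -, hzn⟩ := exists_center_sylow (p := p)
      (hpy.trans ⟨_, (card_mul_index (cent y)).symm.trans (mul_comm _ _)⟩) P
    by_cases e : cs z = cs y
    · exact hzn (e ▸ hpy)
    · exact hzn (hno z hz1 e ▸ hpy.trans hd)
  have hfin : S.Finite := (Set.finite_range fun g : G => (centralizer ({g} : Set G)).index).subset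
    fun n hn => ⟨hn.2.choose, hn.2.choose_spec⟩
  have hsub : ({cs y, cs x, cs w} : Set ℕ) ⊆ S := by
    rintro n (rfl | rfl | rfl)
    exacts [hmem y hy, hmem x hx, hmem w hw]
  have heq : ({cs y, cs x, cs w} : Set ℕ) = S := Set.eq_of_subset_of_ncard_le hsub (by
    rw [← Nat.card_coe_set_eq, Set.ncard_eq_three.2 ⟨_, _, _, hab, hwy.symm, hwx.symm, rfl⟩]
    exact h) hfin
  have D : Sz G (cs y) (cs x) (cs w) := by
    refine ⟨hZ, hs, fun g hg => ?_, ⟨y, hy, rfl⟩, ⟨x, hx, rfl⟩, ⟨w, hw, rfl⟩, hd, hab, hwy.symm, hwx.symm⟩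
    have := hmem g hg
    rw [← heq] at this
    simpa using this
  by_cases h2 : 2 ∣ cs y
  · exact goal_of_abCent hZ fun t ht => D.abCent_of_even h2 ht
  · exact (D.false_of_odd h2).elim

end Cfsg.Agent.CentrelessThree
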