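import Cfsg.Agent.CentrelessThree.Two
import Cfsg.Agent.Solvable.Fitting

/-! A normal abelian two-subgroup. -/

set_option autoImplicit false
set_option linter.style.haveILetI false

namespace Cfsg.Agent.CentrelessThree

open Subgroup
open GroupStructure3.ClassGraph (cs centralizer_mul_eq exists_mul_of_coprime)
open GStructB.TwoSizes (cent IsL mem_cent self_mem_cent)
open ClassRankThree (cent_eq_of_cs_eq ne_one_of_orderOf_prime ne_one_of_mul)

universe u

variable {G : Type u} [Group G] [Finite G]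

namespace Sz

variable {a b c : ℕ} (D : Sz G a b c) (h2 : ¬ 2 ∣ a)
include D h2

theorem exists_two_group : ∃ P : Subgroup G, P.Normal ∧ IsPGroup 2 P ∧ P ≠ ⊥ := by
  by_contra hno
  push Not at hno
  haveI := Fact.mk Nat.prime_two
  obtain ⟨S⟩ : Nonempty (Sylow 2 G) := inferInstance
  obtain ⟨t, -, ht, -, hta⟩ := D.exists_involution h2 S
  obtain ⟨R, hRn, hRs, hRmax⟩ := exists_radical G
  haveI := hRn
  haveI := hRs
  have hinR : ∀ i : G, orderOf i = 2 → cs i = a → i ∈ R := fun i hi hia =>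
    hRmax _ normalClosure_normal (D.isSolvable_normalClosure hi hia) (subset_normalClosure rfl)
  set F := (Cfsg.fittingSubgroup R).map R.subtype with hF
  haveI hFn : F.Normal := ConjAct.normal_of_characteristic_of_normal
  haveI hFnil : Group.IsNilpotent F := by
    haveI : Group.IsNilpotent (Cfsg.fittingSubgroup R) := Components.Fitting.fitting_isNilpotent
    exact Group.nilpotent_of_mulEquiv (equivMapOfInjective _ R.subtype R.subtype_injective)
  have hFR : ∀ x ∈ R, (∀ y ∈ F, Commute x y) → x ∈ F := by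
    intro x hx hc
    refine ⟨⟨x, hx⟩, Solvable.Fitting.centralizer_fitting_le ?_, rfl⟩
    exact mem_centralizer_iff.2 fun y hy => Subtype.ext (hc _ (mem_map_of_mem R.subtype hy)).eq.symm
  have hFodd : ¬ 2 ∣ Nat.card F := by
    intro hd
    obtain ⟨Q⟩ : Nonempty (Sylow 2 F) := inferInstance
    have hQn : (Q : Subgroup F).Normal :=
      (Group.isNilpotent_of_finite_tfae.out 0 3 rfl rfl).1 hFnil 2 inferInstance Q
    haveI := Sylow.characteristic_of_normal Q hQn
    have h0 := hno ((Q : Subgroup F).map F.subtype) ConjAct.normal_of_characteristic_of_normal (Q.2.map _)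
    rw [map_eq_bot_iff_of_injective _ F.subtype_injective] at h0
    exact Q.ne_bot_of_dvd_card hd h0
  have hFcop : ∀ z ∈ F, (orderOf z).Coprime 2 := fun z hz =>
    ((Nat.prime_two.coprime_iff_not_dvd.2 hFodd).coprime_dvd_right (Subgroup.orderOf_dvd_natCard _ hz)).symm
  have hF1 : F ≠ ⊥ := by
    intro h
    have := hFR t (hinR t ht hta) fun y hy => by rw [h, mem_bot] at hy; rw [hy]; exact Commute.one_right t
    rw [h, mem_bot] at this
    exact ne_one_of_orderOf_prime Nat.prime_two ht this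
  set Z := (center F).map F.subtype with hZdef
  haveI hZn : Z.Normal := ConjAct.normal_of_characteristic_of_normal
  have hZF : ∀ z ∈ Z, z ∈ F ∧ F ≤ cent z := by
    rintro z ⟨z, hz, rfl⟩
    exact ⟨z.2, fun y hy => mem_cent.2 (congrArg Subtype.val (mem_center_iff.1 hz ⟨y, hy⟩))⟩
  obtain ⟨z₀, hz₀, hz₀1⟩ : ∃ z ∈ Z, z ≠ 1 := by
    haveI : Nontrivial F := (nontrivial_iff_ne_bot _).2 hF1
    have h := Cores.inf_center_ne_bot (G := F) (N := ⊤) top_ne_bot
    rw [top_inf_eq] at h
    haveI : Nontrivial (center F) := (nontrivial_iff_ne_bot _).2 h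
    obtain ⟨z, hz⟩ := exists_ne (1 : center F)
    exact ⟨_, mem_map_of_mem F.subtype z.2, fun e => hz (Subtype.ext (Subtype.ext e))⟩
  -- `t` fixes no nontrivial element of `Z`
  have hfix : ∀ z ∈ Z, Commute z t → z = 1 := by
    intro z hz hzt
    by_contra hz1
    obtain ⟨hzF, hFz⟩ := hZF z hz
    rcases D.vals z hz1 with h | h | h
    · obtain ⟨T, hT⟩ := exists_sylow_le h2 h
      obtain ⟨i, hiT, hi, hTi, hia⟩ := D.exists_involution h2 T
      have hzi : Commute z i := (mem_cent.1 (hT hiT)).symm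
      have hco : (orderOf z).Coprime (orderOf i) := hi ▸ hFcop z hzF
      have e : cent (z * i) = cent z ⊓ cent i := centralizer_mul_eq hzi hco
      have hm := D.cs_a_of_sylow h2 T (ne_one_of_mul hz1 hco) (e ▸ le_inf hT hTi)
      have e1 := cent_eq_of_cs_eq (e.le.trans inf_le_left) (hm.trans h.symm)
      have e2 := cent_eq_of_cs_eq (e.le.trans inf_le_right) (hm.trans hia.symm)
      have hiF : i ∈ F := hFR i (hinR i hi hia) fun y hy => by
        have : y ∈ cent i := by rw [← e2, e1]; exact hFz hy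
        exact (mem_cent.1 this).symm
      exact hFodd (hi ▸ Subgroup.orderOf_dvd_natCard _ hiF)
    · have hle := D.cent_le_of_b h hzt.symm (ht.symm ▸ hFcop z hzF)
      have htF : t ∈ F := hFR t (hinR t ht hta) fun y hy => (mem_cent.1 (hle (hFz hy))).symm
      exact hFodd (ht ▸ Subgroup.orderOf_dvd_natCard _ htF)
    · exact D.not_commute hta h hzt.symm
  have htt : t * t = 1 := by rw [← pow_two, ← ht, pow_orderOf_eq_one]
  have hinv : ∀ z ∈ Z, t * z * t⁻¹ = z⁻¹ := by
    intro z hz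
    have hz' : t * z * t⁻¹ ∈ Z := hZn.conj_mem z hz t
    have hcm : Commute (t * z * t⁻¹) z := mem_cent.1 ((hZF z hz).2 (hZF _ hz').1)
    have ht' : t⁻¹ = t := inv_eq_of_mul_eq_one_left htt
    refine eq_inv_of_mul_eq_one_left (hfix _ (mul_mem hz' hz) ?_)
    have e : t * (t * z * t⁻¹ * z) * t⁻¹ = t * z * t⁻¹ * z := by
      calc t * (t * z * t⁻¹ * z) * t⁻¹ = (t * t) * z * t⁻¹ * (z * t⁻¹) := by group
        _ = z * (t * z * t⁻¹) := by rw [htt, one_mul, ht']; group
        _ = t * z * t⁻¹ * z := hcm.eq.symm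
    exact (mul_inv_eq_iff_eq_mul.1 e).symm
  set C₀ := centralizer (Z : Set G) with hC₀
  haveI hC₀n : C₀.Normal := inferInstance
  have hcomm : ∀ x : G, x * t * x⁻¹ * t⁻¹ ∈ C₀ := by
    intro x
    refine mem_centralizer_iff.2 fun z hz => ?_
    have h1 : t * (x⁻¹ * z * x) * t⁻¹ = (x⁻¹ * z * x)⁻¹ := hinv _ (by simpa using hZn.conj_mem z hz x⁻¹)
    have h2 : t * z⁻¹ * t⁻¹ = z := by rw [hinv _ (inv_mem hz), inv_inv]
    calc z * (x * t * x⁻¹ * t⁻¹)
        = x * (x⁻¹ * z⁻¹ * x)⁻¹ * t * x⁻¹ * t⁻¹ := by group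
      _ = x * (t * (x⁻¹ * z⁻¹ * x) * t⁻¹) * t * x⁻¹ * t⁻¹ := by
          rw [show x⁻¹ * z⁻¹ * x = (x⁻¹ * z * x)⁻¹ by group, ← conj_inv, h1]
      _ = x * t * x⁻¹ * t⁻¹ * (t * z⁻¹ * t⁻¹) := by group
      _ = x * t * x⁻¹ * t⁻¹ * z := by rw [h2]
  have htC : t ∉ C₀ := fun h => hz₀1 (hfix z₀ hz₀ (mem_centralizer_iff.1 h z₀ hz₀))
  have hidx : C₀.index.Coprime a := Nat.coprime_of_dvd fun p hp hp1 hpa => by
    haveI := Fact.mk hp
    obtain ⟨q, hq⟩ := exists_prime_orderOf_dvd_card' (G := G ⧸ C₀) p (by rw [← index_eq_card]; exact hp1)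
    obtain ⟨g, rfl⟩ := QuotientGroup.mk'_surjective C₀ q
    set f := QuotientGroup.mk' C₀
    have htbar : orderOf (f t) = 2 := orderOf_eq_prime (by rw [← map_pow, pow_two, htt, map_one])
      fun h => htC ((QuotientGroup.eq_one_iff t).1 h)
    have hc : Commute (f g) (f t) := by
      have := (QuotientGroup.eq_one_iff _).2 (hcomm g)
      have h1 : f (g * t * g⁻¹ * t⁻¹) = 1 := this
      rw [map_mul, map_mul, map_mul, map_inv, map_inv, mul_inv_eq_one, mul_inv_eq_iff_eq_mul] at h1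
      exact h1
    have ho : orderOf (f (g * t)) = p * 2 := by
      rw [map_mul, hc.orderOf_mul_eq_mul_orderOf_of_coprime ?_, hq, htbar]
      rw [hq, htbar]
      exact (Nat.coprime_primes hp Nat.prime_two).2 fun e => h2 (e ▸ hpa)
    have hd := ho ▸ orderOf_map_dvd f (g * t)
    exact D.not_mixed hp hpa Nat.prime_two (D.two_dvd_c h2) ((dvd_mul_right p 2).trans hd)
      ((dvd_mul_left 2 p).trans hd)
  have hprod := C₀.card_mul_index
  rw [D.card_eq] at hprod
  have haC : a ∣ Nat.card C₀ := hidx.symm.dvd_of_dvd_mul_right ⟨c, hprod⟩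
  have hle : C₀ ≤ cent z₀ := fun x hx => mem_cent.2 (mem_centralizer_iff.1 hx z₀ hz₀).symm
  have hd := haC.trans (card_dvd_of_le hle)
  have hnc : ∀ {n}, n ∣ c → a ∣ n → False := fun h h' =>
    D.one_lt_a.ne' (D.cop.eq_one_of_dvd (h'.trans h))
  rcases D.vals z₀ hz₀1 with h | h | h
  · exact hnc (D.card_cent_a h).dvd hd
  · exact hnc (D.card_cent_b_dvd h) hd
  have hC₀a : Nat.card C₀ = a := Nat.dvd_antisymm ((card_dvd_of_le hle).trans (D.card_cent_c h).dvd) haC
  have hC₀i : C₀.index = c := by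
    rw [hC₀a] at hprod
    exact Nat.eq_of_mul_eq_mul_left (by have := D.one_lt_a; omega) hprod
  haveI : Group.IsSolvable C₀ := Cfsg.Agent.S0205.result
    (Nat.not_even_iff_odd.1 fun he => h2 (hC₀a ▸ he.two_dvd))
  haveI := D.isSolvable_cent h2 ht hta
  haveI : Group.IsSolvable (G ⧸ C₀) := by
    refine Group.isSolvable_of_surjective (f := (QuotientGroup.mk' C₀).comp (cent t).subtype) fun q => ?_
    obtain ⟨g, rfl⟩ := QuotientGroup.mk'_surjective C₀ q
    obtain ⟨u, hu, v, hv, rfl⟩ := exists_mul_of_coprime (A := C₀) (B := cent t)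
      (by rw [hC₀i, show (cent t).index = a from hta]; exact D.cop.symm) g
    refine ⟨⟨u, hu⟩, ?_⟩
    show QuotientGroup.mk' C₀ u = QuotientGroup.mk' C₀ (u * v)
    rw [map_mul, show QuotientGroup.mk' C₀ v = 1 from (QuotientGroup.eq_one_iff v).2 hv, mul_one]
  exact D.hns ((Group.isSolvable_iff_subgroup_quotient C₀).2 ⟨inferInstance, inferInstance⟩)

theorem exists_two_abelian :
    ∃ M : Subgroup G, M.Normal ∧ IsPGroup 2 M ∧ M ≠ ⊥ ∧ IsMulCommutative M := by
  haveI := Fact.mk Nat.prime_two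
  obtain ⟨P, hPn, hP, hP1⟩ := D.exists_two_group h2
  haveI := hPn
  haveI : Nontrivial P := (nontrivial_iff_ne_bot _).2 hP1
  haveI := hP.center_nontrivial
  refine ⟨(center P).map P.subtype, ConjAct.normal_of_characteristic_of_normal,
    (hP.to_subgroup _).map _, ?_, ⟨⟨?_⟩⟩⟩
  · rw [Ne, map_eq_bot_iff_of_injective _ P.subtype_injective]
    exact (nontrivial_iff_ne_bot _).1 inferInstance
  · rintro ⟨_, x, hx, rfl⟩ ⟨_, y, hy, rfl⟩
    exact Subtype.ext (show (x : G) * y = y * x from congrArg Subtype.val (mem_center_iff.1 hy x))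

end Sz

end Cfsg.Agent.CentrelessThree
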