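import Cfsg.Agent.CentrelessThree.Core
import Cfsg.Agent.CentrelessThree.Involution
import Cfsg.Agent.S4033
import Cfsg.Agent.SolvStruct.Kazarin
import Cfsg.Agent.SolvStruct.Kegel.Main
import Cfsg.Agent.Lib.Characters.Burnside

/-! Involutions of the small size: soluble centraliser, soluble normal closure. -/

set_option autoImplicit false
set_option linter.style.haveILetI false

namespace Cfsg.Agent.CentrelessThree

open Subgroup
open GroupStructure3.ClassGraph (cs centralizer_mul_eq cs_pow_dvd exists_mul_of_coprime)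
open GStructB.TwoSizes (cent IsL mem_cent self_mem_cent)
open ClassRankThree (cent_eq_of_cs_eq ne_one_of_orderOf_prime ne_one_of_mul AbCent CC)

universe u

variable {G : Type u} [Group G] [Finite G]

namespace Sz

variable {a b c : ℕ} (D : Sz G a b c)
include D

theorem abCent_of_not_primePow (ha : ¬ IsPrimePow a) :
    ∃ w : G, cs w = c ∧ AbCent w := by
  obtain ⟨u, -, hu⟩ := D.ec
  obtain ⟨l, hl, i, hw, hwc⟩ := D.component_c hu
  haveI := Fact.mk hl
  obtain ⟨p, hp, hpa, hpl⟩ : ∃ p, p.Prime ∧ p ∣ a ∧ p ≠ l := by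
    by_contra hno
    push Not at hno
    have ha0 : a ≠ 0 := by have := D.one_lt_a; omega
    have e := Nat.eq_prime_pow_of_unique_prime_dvd ha0 fun {q} hq hqa => hno q hq hqa
    refine ha ((isPrimePow_nat_iff a).2 ⟨l, _, hl, Nat.pos_of_ne_zero fun h0 => ?_, e.symm⟩)
    rw [h0, pow_zero] at e
    exact D.one_lt_a.ne' e
  haveI := Fact.mk hp
  obtain ⟨h, hh⟩ := exists_prime_orderOf_dvd_card' (G := cent (u ^ i)) p (by rw [D.card_cent_c hwc]; exact hpa)
  rw [← Subgroup.orderOf_coe] at hh
  exact ⟨_, hwc, ClassRankThree.abCent_of_coprime (Q := {g : G | cs g = c}) D.qc_one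
    (fun v hv g hg hg1 => D.qc_closed hv g hg hg1)
    (fun _ hg _ hk hle => cent_eq_of_cs_eq hle (hg.trans hk.symm)) hwc hw
    (ne_one_of_orderOf_prime hp hh) (mem_cent.1 h.2)
    (fun hd => hpl ((Nat.prime_dvd_prime_iff_eq hl hp).1 (hh ▸ hd)).symm)⟩

theorem cc_of_abCent {w : G} (hw : cs w = c) (hab : AbCent w) : CC (cent w) := by
  refine ⟨fun x y => Subtype.ext (hab x x.2 y y.2).eq, fun h hh hh1 => ?_⟩
  have hc : cs h = c := D.qc_closed hw h (mem_cent.1 hh) hh1
  exact (cent_eq_of_cs_eq (fun x hx => mem_cent.2 (hab x hx h hh)) (hw.trans hc.symm)).symm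

variable (h2 : ¬ 2 ∣ a)
include h2

theorem isSolvable_cent {t : G} (ht : orderOf t = 2) (hta : cs t = a) : Group.IsSolvable (cent t) := by
  classical
  haveI := Fact.mk Nat.prime_two
  obtain ⟨m, hm⟩ := D.dvd_ab
  have key : ∀ g : cent t, (orderOf g).Coprime 2 →
      (centralizer ({g} : Set (cent t))).index = 1 ∨ (centralizer ({g} : Set (cent t))).index = m := by
    intro g hg
    rw [← Subgroup.orderOf_coe] at hg
    have hc : Commute t (g : G) := (mem_cent.1 g.2).symm
    have hco : (orderOf t).Coprime (orderOf (g : G)) := ht.symm ▸ hg.symm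
    have hne : t * (g : G) ≠ 1 := ne_one_of_mul (ne_one_of_orderOf_prime Nat.prime_two ht) hco
    have hev : 2 ∣ orderOf (t * (g : G)) := by
      rw [hc.orderOf_mul_eq_mul_orderOf_of_coprime hco, ht]; exact dvd_mul_right 2 _
    have hrel : cs (t * (g : G)) = (centralizer ({g} : Set (cent t))).index * a := by
      have e : centralizer ({g} : Set (cent t)) = (cent (g : G)).subgroupOf (cent t) := by
        ext k
        rw [mem_subgroupOf, mem_cent, mem_cent]
        exact ⟨fun h => h.map (cent t).subtype, fun h => Subtype.ext h.eq⟩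
      rw [e, cs, centralizer_mul_eq hc hco, ← hta]
      show (cent t ⊓ cent (g : G)).index = (cent (g : G)).relIndex (cent t) * cs t
      rw [← inf_relIndex_left]
      exact (relIndex_mul_index inf_le_left).symm
    have hapos : 0 < a := by have := D.one_lt_a; omega
    rcases D.vals _ hne with h | h | h
    · rw [h] at hrel
      exact Or.inl (Nat.eq_of_mul_eq_mul_right hapos (by rw [one_mul]; exact hrel.symm))
    · rw [h, hm, mul_comm] at hrel
      exact Or.inr (Nat.eq_of_mul_eq_mul_right hapos hrel.symm)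
    · exact absurd h (D.cs_ne_c Nat.prime_two (D.two_dvd_c h2) hev)
  by_cases hall : ∀ g : cent t, (orderOf g).Coprime 2 → g ∈ center (cent t)
  · -- a two-group modulo the centre
    haveI : Group.IsNilpotent (cent t ⧸ center (cent t)) := by
      refine IsPGroup.isNilpotent (p := 2) fun q => ?_
      obtain ⟨g, rfl⟩ := QuotientGroup.mk'_surjective (center (cent t)) q
      obtain ⟨k, s, hks, hs, -⟩ := GStructB.PElements.exists_split 2 g
      refine ⟨k, ?_⟩
      rw [← map_pow]
      refine (QuotientGroup.eq_one_iff _).2 (hall _ ?_)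
      have h1 : orderOf (g ^ 2 ^ k) ∣ s :=
        orderOf_dvd_of_pow_eq_one (by rw [← pow_mul, ← hks, pow_orderOf_eq_one])
      exact ((Nat.prime_two.coprime_iff_not_dvd.2 hs).coprime_dvd_right h1).symm
    haveI : Group.IsSolvable (center (cent t)) :=
      Group.isSolvable_of_comm fun x y => Subtype.ext ((mem_center_iff.1 y.2) x)
    exact (Group.isSolvable_iff_subgroup_quotient (center (cent t))).2 ⟨inferInstance, inferInstance⟩
  push Not at hall
  obtain ⟨g₀, hg₀, hg₀c⟩ := hall
  have hne1 : (centralizer ({g₀} : Set (cent t))).index ≠ 1 := fun h =>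
    hg₀c (GroupStructure3.ClassGraph.cs_eq_one_iff.1 h)
  have hm1 : m ≠ 1 := fun h => hne1 (((key g₀ hg₀).resolve_left hne1).trans h)
  have hset : Set.ncard (Set.range fun x : {x : cent t // (orderOf x).Coprime 2} =>
      (ConjClasses.mk (x : cent t)).carrier.ncard) = 2 := by
    rw [show (Set.range fun x : {x : cent t // (orderOf x).Coprime 2} =>
      (ConjClasses.mk (x : cent t)).carrier.ncard) = ({1, m} : Set ℕ) from ?_]
    · exact Set.ncard_pair (Ne.symm hm1)
    ext v
    simp only [Set.mem_range, Set.mem_insert_iff, Set.mem_singleton_iff, GStructClassType.ncard_carrier]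
    constructor
    · rintro ⟨⟨x, hx⟩, rfl⟩
      exact key x hx
    · rintro (rfl | rfl)
      · exact ⟨⟨1, by simp⟩, GroupStructure3.ClassGraph.cs_eq_one_iff.2 (one_mem _)⟩
      · exact ⟨⟨g₀, hg₀⟩, (key g₀ hg₀).resolve_left hne1⟩
  rcases Cfsg.Agent.S4033.result Nat.prime_two hset with
    ⟨H, hH, hH2, k, hk⟩ | ⟨q, hq, P, Q, A, hqp, hA, hcard, hn, -, hsup⟩
  · obtain ⟨S⟩ : Nonempty (Sylow 2 (cent t)) := inferInstance
    haveI := hH
    refine SolvStruct.Kegel.isSolvable _ (cent t) H (S : Subgroup (cent t)) rfl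
      (Components.Fitting.isNilpotent_of_isMulCommutative H) S.2.isNilpotent fun g => ?_
    refine exists_mul_of_coprime ?_ g
    rw [hk]
    exact ((Nat.prime_two.coprime_iff_not_dvd.2 S.not_dvd_index).pow_left k).symm
  · haveI := hn
    haveI := hq
    obtain ⟨i, hi⟩ := P.2.exists_card_eq
    obtain ⟨j, hj⟩ := Q.2.exists_card_eq
    set U := (P : Subgroup (cent t)) ⊔ (Q : Subgroup (cent t)) with hU
    haveI : Group.IsSolvable U :=
      Characters.burnside_pa_qb (a := i) (b := j) Nat.prime_two hq.out (by rw [hcard, hi, hj])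
    haveI : Group.IsSolvable (cent t ⧸ U) := by
      refine Group.isSolvable_of_comm fun x y => ?_
      have hrep : ∀ z : cent t ⧸ U, ∃ z' ∈ A, QuotientGroup.mk' U z' = z := by
        intro z
        obtain ⟨z, rfl⟩ := QuotientGroup.mk'_surjective U z
        obtain ⟨v, hv, z', hz', e⟩ := mem_sup_of_normal_left.1 (hsup ▸ mem_top z : z ∈ U ⊔ A)
        refine ⟨z', hz', ?_⟩
        rw [← e, map_mul, show QuotientGroup.mk' U v = 1 from (QuotientGroup.eq_one_iff v).2 hv, one_mul]
      obtain ⟨x', hx', rfl⟩ := hrep x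
      obtain ⟨y', -, rfl⟩ := hrep y
      rw [← map_mul, ← map_mul, mem_center_iff.1 (hA hx') y']
    exact (Group.isSolvable_iff_subgroup_quotient U).2 ⟨inferInstance, inferInstance⟩

omit h2 in
theorem isSolvable_normalClosure {t : G} (ht : orderOf t = 2) (hta : cs t = a) :
    Group.IsSolvable (normalClosure ({t} : Set G)) := by
  by_cases ha : IsPrimePow a
  · obtain ⟨p, k, hp, -, hk⟩ := (isPrimePow_nat_iff a).1 ha
    exact SolvStruct.Kazarin.isSolvable_normalClosure hp (hta.trans hk.symm)
  obtain ⟨w, hw, hab⟩ := D.abCent_of_not_primePow ha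
  refine isSolvable_normalClosure_of_cc _ G (cent w) t rfl (D.cc_of_abCent hw hab) ht ?_ ?_
  · exact hta.trans (D.card_cent_c hw).symm
  · rw [D.card_cent_a hta, D.card_cent_c hw]
    exact D.cop.symm

end Sz

end Cfsg.Agent.CentrelessThree
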